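import Mathlib

/-!
# The degree equations
-/

set_option autoImplicit false
set_option linter.all false

namespace CfsgLib.Recog.ThreeCubeSFour

/-- The equations force a constituent of degree three. -/
theorem degree_three {A C A' D K L M x2 x3 y m x5 x9 : ℂ}
    (hx2 : x2 ≠ 0) (hx3 : x3 ≠ 0) (hy : y ≠ 0) (hm : m ≠ 0) (hx5 : x5 ≠ 0) (hx9 : x9 ≠ 0)
    (d2 : x2 + (x3 + y) = m) (d5 : x5 = 1 + m - y) (d9 : x9 = 1 + m + y)
    (hK : K ≠ 0) (hM : M ≠ 0) (hL : L ^ 2 = K * M) (hC : C ≠ 0) (hD : D ≠ 0)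
    (e1 : A ^ 2 + C ^ 2 / m - (A + C) ^ 2 / x5 = 0)
    (e2 : A * A' - (A + C) * (A' + D) / x5 = 2 * L)
    (e3 : A' ^ 2 - D ^ 2 / y - (A' + D) ^ 2 / x5 = 2 * M)
    (e4 : A ^ 2 + C ^ 2 / m - (A + C) ^ 2 / x9 = K)
    (e5 : A * A' - (A + C) * (A' - D) / x9 = L)
    (e6 : A' ^ 2 + D ^ 2 / y - (A' - D) ^ 2 / x9 = 3 * M)
    (e7 : C ^ 2 * (1 / x2 - 1 / m) = 2 * K) (e8 : D ^ 2 * (1 / x3 + 1 / y) = 2 * M) :
    x3 = 3 := by
  subst d5 d9
  set Δ := C * y * A' - D * (A * m - C) with hΔ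
  have g1 : (A ^ 2 + C ^ 2 / m - (A + C) ^ 2 / (1 + m - y)) *
      (A' ^ 2 - D ^ 2 / y - (A' + D) ^ 2 / (1 + m - y)) - (A * A' - (A + C) * (A' + D) / (1 + m - y)) ^ 2
      = -Δ ^ 2 / (y * (1 + m - y) * m) := by
    rw [hΔ]; field_simp; ring
  have g2 : (A ^ 2 + C ^ 2 / m - (A + C) ^ 2 / (1 + m + y)) *
      (A' ^ 2 + D ^ 2 / y - (A' - D) ^ 2 / (1 + m + y)) - (A * A' - (A + C) * (A' - D) / (1 + m + y)) ^ 2
      = Δ ^ 2 / (y * (1 + m + y) * m) := by
    rw [hΔ]; field_simp; ring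
  rw [e1, e2, e3] at g1
  rw [e4, e5, e6] at g2
  field_simp at g1 g2
  have h9 : 1 + m + y = 2 * (1 + m - y) := by
    refine mul_left_cancel₀ (a := 2 * (K * M) * (y * m)) ?_ ?_
    · exact mul_ne_zero (mul_ne_zero two_ne_zero (mul_ne_zero hK hM)) (mul_ne_zero hy hm)
    · linear_combination g2 + g1 + (y * (1 + m + y) * m + 4 * (y * (1 + m - y) * m)) * hL
  have hm3 : m = 3 * y - 1 := by linear_combination -h9
  have h5 : 1 + m - y = 2 * y := by linear_combination hm3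
  have h9' : 1 + m + y = 4 * y := by linear_combination hm3
  rw [h5] at e1 e2 e3
  rw [h9'] at e4 e5
  have hKX : 4 * y * K = (A + C) ^ 2 := by
    field_simp at e1 e4
    refine mul_left_cancel₀ (a := m * y * 2) (mul_ne_zero (mul_ne_zero hm hy) two_ne_zero) ?_
    linear_combination (norm := ring_nf) -2 * y * e4 + 4 * y * e1
  have hX : A + C ≠ 0 := by
    intro h
    rw [h] at hKX
    exact mul_ne_zero (mul_ne_zero (by norm_num : (4 : ℂ) ≠ 0) hy) hK (by linear_combination hKX)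
  field_simp at e2 e5 e3
  have hAD : A * A' * y + (A + C) * D = 0 := by linear_combination -e2 / 2 + e5 / 2
  have hLL : (A' + 3 * D) ^ 2 = 4 * y * M := by
    have h : (A + C) * (A' + 3 * D) = -4 * y * L := by linear_combination -e2 + 2 * hAD
    refine mul_left_cancel₀ (pow_ne_zero 2 hX) ?_
    linear_combination ((A + C) * (A' + 3 * D) - 4 * y * L) * h + 16 * y ^ 2 * hL + 4 * y * M * hKX
  have hquad : (y - 1) * A' ^ 2 - 4 * A' * D - 6 * D ^ 2 = 0 := by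
    linear_combination e3 / 2 - hLL / 2
  set r := -A' / D with hr
  have hA' : A' = -r * D := by rw [hr]; field_simp
  have hy2 : y * r ^ 2 = r ^ 2 - 4 * r + 6 := by
    refine mul_left_cancel₀ (pow_ne_zero 2 hD) ?_
    rw [hA'] at hquad
    linear_combination hquad
  have hr0 : r ≠ 0 := by
    intro h
    rw [h] at hy2
    norm_num at hy2
  have hpoly : r ^ 2 - 4 * r + 6 ≠ 0 := hy2 ▸ mul_ne_zero hy (pow_ne_zero 2 hr0)
  set t := r * y - 1 with ht
  have hCt : C = A * t := by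
    refine mul_left_cancel₀ hD ?_
    rw [hA'] at hAD
    linear_combination hAD
  have hA0 : A ≠ 0 := fun h => hC (by rw [hCt, h, zero_mul])
  have ht0 : t ≠ 0 := fun h => hC (by rw [hCt, h, mul_zero])
  have htr : t * r = (r - 2) * (r - 3) := by linear_combination hy2
  have hr2 : r - 2 ≠ 0 := fun h => mul_ne_zero ht0 hr0 (by rw [htr, h, zero_mul])
  have hr3 : r - 3 ≠ 0 := fun h => mul_ne_zero ht0 hr0 (by rw [htr, h, mul_zero])
  have hXt : A + C = A * r * y := by linear_combination hCt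
  have htm : 2 * t ^ 2 = m * (r - 2) ^ 2 := by
    rw [hCt] at e1
    field_simp at e1
    refine mul_left_cancel₀ (mul_ne_zero (pow_ne_zero 2 hA0) hy) ?_
    linear_combination e1 + A ^ 2 * m * y * hy2
  have hrm : r ^ 2 * m = 2 * (r - 3) ^ 2 := by
    refine mul_left_cancel₀ (pow_ne_zero 2 hr2) ?_
    linear_combination -r ^ 2 * htm + 2 * (t * r + (r - 2) * (r - 3)) * htr
  have hq : x3 * (r ^ 2 - 6 * r + 7) = 2 * y := by
    field_simp at e8
    rw [hA'] at hLL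
    refine mul_left_cancel₀ (pow_ne_zero 2 hD) ?_
    linear_combination -2 * e8 + x3 * hLL
  have hp : x2 * (r ^ 2 - 4 * r + 5) = t ^ 2 := by
    field_simp at e7
    refine mul_left_cancel₀ (mul_ne_zero (mul_ne_zero (pow_ne_zero 2 hA0) hm) hy) ?_
    have hK4 : 4 * y * K = A ^ 2 * r ^ 2 * y ^ 2 := by rw [hKX, hXt]; ring
    rw [hCt] at e7
    linear_combination -y * e7 - x2 * m / 2 * hK4 - A ^ 2 * m * y * x2 / 2 * hy2 - A ^ 2 * x2 * y / 1 * htm / 2
  have hfin : (r - 1) * ((r - 3) ^ 2 * (r ^ 2 - 4 * r + 6)) = 0 := by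
    linear_combination (-(1 : ℂ) / 2) * ((r ^ 2 - 6 * r + 7) * r ^ 2 * hp
      + (r ^ 2 - 6 * r + 7) * (t * r + (r - 2) * (r - 3)) * htr
      - (r ^ 2 - 4 * r + 5) * (r ^ 2 - 6 * r + 7) * r ^ 2 * d2
      + (r ^ 2 - 4 * r + 5) * r ^ 2 * hq
      - (r ^ 2 - 4 * r + 5) * (r ^ 2 - 6 * r + 7) * r ^ 2 * hm3
      - (r ^ 2 - 4 * r + 5) * (2 * (r ^ 2 - 6 * r + 7) - 2) * hy2)
  have hr1 : r = 1 := by
    rcases mul_eq_zero.1 hfin with h | h
    · linear_combination h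
    · exact absurd h (mul_ne_zero (pow_ne_zero 2 hr3) hpoly)
  rw [hr1] at hy2 hq
  linear_combination hq / 2 + hy2

end CfsgLib.Recog.ThreeCubeSFour
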