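import Mathlib
import Cfsg.Agent.Lib.Char.Exceptional.Virtual
import Cfsg.Agent.Lib.Char.Induced

/-!
# Monomial characters with values in the twelfth roots of unity, in exact coordinates
-/

set_option autoImplicit false
set_option linter.all false

open CfsgLib.Char CfsgLib.Char.Exceptional

namespace CfsgLib.Recog.ThreeCubeSFour

/-- Coordinates with respect to `1, √3, i, i√3`. -/
abbrev Quad := ℤ × ℤ × ℤ × ℤ

/-- Half of the number with the given coordinates. -/
noncomputable def val (q : Quad) : ℂ :=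
  ((q.1 : ℂ) + (q.2.1 : ℂ) * (Real.sqrt 3 : ℂ) +
    ((q.2.2.1 : ℂ) + (q.2.2.2 : ℂ) * (Real.sqrt 3 : ℂ)) * Complex.I) / 2

theorem val_add (p q : Quad) : val (p + q) = val p + val q := by
  simp only [val, Prod.fst_add, Prod.snd_add, Int.cast_add]
  ring

theorem val_zero : val 0 = 0 := by simp [val]

theorem val_sum {ι : Type*} (s : Finset ι) (f : ι → Quad) : val (∑ i ∈ s, f i) = ∑ i ∈ s, val (f i) := by
  classical
  induction s using Finset.induction with
  | empty => simp [val_zero]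
  | insert a s ha ih => rw [Finset.sum_insert ha, Finset.sum_insert ha, val_add, ih]

/-- Product of numerators. -/
def qmul (p q : Quad) : Quad :=
  (p.1 * q.1 + 3 * p.2.1 * q.2.1 - p.2.2.1 * q.2.2.1 - 3 * p.2.2.2 * q.2.2.2,
    p.1 * q.2.1 + p.2.1 * q.1 - p.2.2.1 * q.2.2.2 - p.2.2.2 * q.2.2.1,
    p.1 * q.2.2.1 + 3 * p.2.1 * q.2.2.2 + p.2.2.1 * q.1 + 3 * p.2.2.2 * q.2.1,
    p.1 * q.2.2.2 + p.2.1 * q.2.2.1 + p.2.2.1 * q.2.1 + p.2.2.2 * q.1)

theorem val_qmul (p q : Quad) : val p * val q = val (qmul p q) / 2 := by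
  have h3 : (Real.sqrt 3 : ℂ) ^ 2 = 3 := by
    rw [← Complex.ofReal_pow, Real.sq_sqrt (by norm_num)]; norm_num
  simp only [val, qmul]
  push_cast
  linear_combination (norm := ring_nf)
    ((p.2.1 : ℂ) * q.2.1 / 4 + ((p.2.1 : ℂ) * q.2.2.2 + p.2.2.2 * q.2.1) * Complex.I / 4 +
      (p.2.2.2 : ℂ) * q.2.2.2 * Complex.I ^ 2 / 4) * h3 +
    (((p.2.2.1 : ℂ) * q.2.2.1 + 3 * (p.2.2.2 : ℂ) * q.2.2.2 +
      ((p.2.2.1 : ℂ) * q.2.2.2 + p.2.2.2 * q.2.2.1) * (Real.sqrt 3 : ℂ)) / 4) * Complex.I_sq

/-- Twice the twelfth roots of unity. -/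
def root : ZMod 12 → Quad :=
  ![(2, 0, 0, 0), (0, 1, 1, 0), (1, 0, 0, 1), (0, 0, 2, 0), (-1, 0, 0, 1), (0, -1, 1, 0),
    (-2, 0, 0, 0), (0, -1, -1, 0), (-1, 0, 0, -1), (0, 0, -2, 0), (1, 0, 0, -1), (0, 1, -1, 0)]

theorem qmul_root : ∀ a b, qmul (root a) (root b) = root (a + b) + root (a + b) := by decide +kernel

theorem val_root_add (a b : ZMod 12) : val (root (a + b)) = val (root a) * val (root b) := by
  rw [val_qmul, qmul_root, val_add]
  ring

theorem val_root_zero : val (root 0) = 1 := by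
  show val (2, 0, 0, 0) = 1
  simp [val]

/-- The twelfth roots of unity. -/
noncomputable def zeta (a : ZMod 12) : ℂˣ :=
  ⟨val (root a), val (root (-a)), by rw [← val_root_add, add_neg_cancel, val_root_zero],
    by rw [← val_root_add, neg_add_cancel, val_root_zero]⟩

variable {G : Type*} [Group G]

/-- The coordinates of a monomial character. -/
def mono {n : ℕ} (inS : G → Bool) (e : G → ZMod 12) (t : Fin n → G) (g : G) : Quad :=
  ∑ i, if inS ((t i)⁻¹ * g * t i) then root (e ((t i)⁻¹ * g * t i)) else 0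

theorem isGen_mono [Fintype G] {n : ℕ} (inS : G → Bool) (e : G → ZMod 12) (t : Fin n → G)
    (h1 : inS 1 = true)
    (hmul : ∀ a, inS a = true → ∀ b, inS b = true → inS (a * b) = true ∧ e (a * b) = e a + e b)
    (hcov : ∀ x, ∃ i, inS ((t i)⁻¹ * x) = true)
    (hinj : ∀ i j, inS ((t i)⁻¹ * t j) = true → i = j) :
    Cfsg.IsGeneralizedCharacter G (fun g => val (mono inS e t g)) := by
  classical
  have hpow : ∀ a, inS a = true → ∀ k : ℕ, inS (a ^ k) = true := fun a ha k => by
    induction k with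
    | zero => simpa using h1
    | succ k ih => rw [pow_succ]; exact (hmul _ ih a ha).1
  let S : Subgroup G :=
    { carrier := {g | inS g = true}
      one_mem' := h1
      mul_mem' := fun {a b} ha hb => (hmul a ha b hb).1
      inv_mem' := fun {a} ha => by
        show inS a⁻¹ = true
        have hp := orderOf_pos a
        have : a⁻¹ = a ^ (orderOf a - 1) := by
          refine inv_eq_of_mul_eq_one_right ?_
          rw [← pow_succ', Nat.sub_add_cancel hp, pow_orderOf_eq_one]
        rw [this]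
        exact hpow a ha _ }
  have hmem : ∀ g, g ∈ S ↔ inS g = true := fun g => Iff.rfl
  have he1 : e 1 = 0 := by
    have h := (hmul 1 h1 1 h1).2
    rw [one_mul] at h
    linear_combination -h
  let psi : S →* ℂˣ :=
    { toFun := fun s => zeta (e s)
      map_one' := Units.ext (by show val (root (e 1)) = 1; rw [he1, val_root_zero])
      map_mul' := fun a b => Units.ext (by
        show val (root (e (a * b : G))) = val (root (e a)) * val (root (e b))
        rw [(hmul _ a.2 _ b.2).2, val_root_add]) }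
  have h := IsGen.indFun S (IsGen.of_irr (isIrrCharacter_linear psi))
  convert h using 1
  funext g
  let E : G → ℂ := Cfsg.extendByZero S fun s => (psi s : ℂ)
  have hE : ∀ y, E y = val (if inS y then root (e y) else 0) := fun y => by
    by_cases hy : inS y = true
    · rw [if_pos hy]
      exact Subtype.val_injective.extend_apply _ _ (⟨y, hy⟩ : S)
    · rw [if_neg hy, val_zero]
      exact Function.extend_apply' _ _ _ fun ⟨s, hs⟩ => hy (hs ▸ s.2)
  have hconj : ∀ (s : S) y, E ((s : G)⁻¹ * y * s) = E y := by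
    intro s y
    rw [hE, hE]
    by_cases hy : inS y = true
    · have hy' : inS ((s : G)⁻¹ * y * s) = true := S.mul_mem (S.mul_mem (S.inv_mem s.2) hy) s.2
      rw [if_pos hy, if_pos hy', (hmul _ ((hmul _ (S.inv_mem s.2) _ hy).1) _ s.2).2,
        (hmul _ (S.inv_mem s.2) _ hy).2]
      have h0 := (hmul _ (S.inv_mem s.2) _ s.2).2
      rw [inv_mul_cancel, he1] at h0
      rw [show e ((s : G)⁻¹) + e y + e (s : G) = e y + (e ((s : G)⁻¹) + e (s : G)) by ring, ← h0,
        add_zero]
    · have hy' : ¬ inS ((s : G)⁻¹ * y * s) = true := fun h => hy (by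
        have := S.mul_mem (S.mul_mem s.2 h) (S.inv_mem s.2)
        exact (hmem y).1 (by simpa [mul_assoc] using this))
      rw [if_neg hy, if_neg hy']
  let f : Fin n × S → G := fun p => t p.1 * p.2
  have hf : Function.Bijective f := by
    constructor
    · rintro ⟨i, a⟩ ⟨j, b⟩ hab
      have hab' : t i * (a : G) = t j * b := hab
      have : (t i)⁻¹ * t j = (a : G) * (b : G)⁻¹ := by
        rw [eq_mul_inv_iff_mul_eq, mul_assoc, ← hab']; group
      obtain rfl := hinj i j (this ▸ S.mul_mem a.2 (S.inv_mem b.2))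
      exact Prod.ext rfl (Subtype.ext (mul_left_cancel hab'))
    · intro x
      obtain ⟨i, hi⟩ := hcov x
      exact ⟨⟨i, ⟨_, hi⟩⟩, mul_inv_cancel_left _ _⟩
  show val (mono inS e t g) = (Nat.card S : ℂ)⁻¹ * ∑ x : G, E (x⁻¹ * g * x)
  have hsum : ∑ x : G, E (x⁻¹ * g * x) = ∑ p : Fin n × S, E ((t p.1)⁻¹ * g * t p.1) := by
    rw [← Fintype.sum_bijective f hf (fun p => E ((f p)⁻¹ * g * f p)) _ fun p => rfl]
    refine Finset.sum_congr rfl fun p _ => ?_
    rw [show (f p)⁻¹ * g * f p = (p.2 : G)⁻¹ * ((t p.1)⁻¹ * g * t p.1) * p.2 by simp [f, mul_assoc]]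
    exact hconj p.2 _
  rw [hsum, Fintype.sum_prod_type]
  simp only [Finset.sum_const, Finset.card_univ, ← Nat.card_eq_fintype_card, nsmul_eq_mul]
  rw [← Finset.mul_sum, ← mul_assoc, inv_mul_cancel₀ (Nat.cast_ne_zero.2 Nat.card_pos.ne'), one_mul,
    mono, val_sum]
  exact Finset.sum_congr rfl fun i _ => (hE _).symm

end CfsgLib.Recog.ThreeCubeSFour
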