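import Cfsg.Agent.Lib.Recog.ThreeCubeSFour.Group
import Cfsg.Agent.Lib.Recog.ThreeCubeSFour.Monomial

/-!
# Ten characters of `3³ : S₄` as monomial characters
-/

set_option autoImplicit false
set_option linter.all false
set_option maxRecDepth 100000

open DihedralGroup CfsgLib.Char CfsgLib.Char.Exceptional

namespace CfsgLib.Recog.ThreeCubeSFour

/-- A rotation index as a twelfth. -/
def z4 (x : ZMod 3) : ZMod 12 := (4 * x.val : ℕ)

/-- A parity as a twelfth. -/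
def z6 (x : ZMod 3) : ZMod 12 := (6 * x.val : ℕ)

/-- The stabilizer of the first block. -/
def inA (m : M) : Bool := decide (act m.1.right 0 = 0)

/-- The inertia group of weight one. -/
def inB (m : M) : Bool := decide (act m.1.right 0 = 0 ∧ pf m.1.left.1 = 0)

/-- The inertia group of weight two. -/
def inC (m : M) : Bool := decide (act m.1.right 0 = 0 ∧ pf m.1.left.2.1 = 0 ∧ pf m.1.left.2.2 = 0)

/-- The inertia group of weight three. -/
def inD (m : M) : Bool :=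
  decide (pf m.1.right = 0 ∧ pf m.1.left.1 = 0 ∧ pf m.1.left.2.1 = 0 ∧ pf m.1.left.2.2 = 0)

/-- The order four exponent. -/
def k2 (m : M) : ZMod 12 :=
  if pf m.1.right = 0 then (if pf m.1.left.2.1 = 0 then 0 else 6)
  else (if pf m.1.left.2.1 = 0 then 3 else 9)

/-- Coset representatives. -/
def tA : Fin 3 → M :=
  ![⟨⟨(r 0, r 0, r 0), r 0⟩, by decide⟩,
    ⟨⟨(r 0, r 0, r 0), r 1⟩, by decide⟩,
    ⟨⟨(r 0, r 0, r 0), r 2⟩, by decide⟩]

/-- Coset representatives. -/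
def tB : Fin 6 → M :=
  ![⟨⟨(r 0, r 0, r 0), r 0⟩, by decide⟩,
    ⟨⟨(r 0, r 0, r 0), r 1⟩, by decide⟩,
    ⟨⟨(r 0, r 0, r 0), r 2⟩, by decide⟩,
    ⟨⟨(r 0, r 0, sr 0), sr 2⟩, by decide⟩,
    ⟨⟨(r 0, sr 0, r 0), sr 1⟩, by decide⟩,
    ⟨⟨(sr 0, r 0, r 0), sr 0⟩, by decide⟩]

/-- Coset representatives. -/
def tC : Fin 12 → M :=
  ![⟨⟨(r 0, r 0, r 0), r 0⟩, by decide⟩,
    ⟨⟨(r 0, r 0, r 0), r 1⟩, by decide⟩,
    ⟨⟨(r 0, r 0, r 0), r 2⟩, by decide⟩,
    ⟨⟨(r 0, r 0, sr 0), sr 0⟩, by decide⟩,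
    ⟨⟨(r 0, r 0, sr 0), sr 1⟩, by decide⟩,
    ⟨⟨(r 0, sr 0, r 0), sr 0⟩, by decide⟩,
    ⟨⟨(r 0, sr 0, r 0), sr 2⟩, by decide⟩,
    ⟨⟨(r 0, sr 0, sr 0), r 0⟩, by decide⟩,
    ⟨⟨(sr 0, r 0, r 0), sr 1⟩, by decide⟩,
    ⟨⟨(sr 0, r 0, r 0), sr 2⟩, by decide⟩,
    ⟨⟨(sr 0, r 0, sr 0), r 2⟩, by decide⟩,
    ⟨⟨(sr 0, sr 0, r 0), r 1⟩, by decide⟩]

/-- Coset representatives. -/
def tD : Fin 8 → M :=
  ![⟨⟨(r 0, r 0, r 0), r 0⟩, by decide⟩,
    ⟨⟨(r 0, r 0, sr 0), sr 0⟩, by decide⟩,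
    ⟨⟨(r 0, sr 0, r 0), sr 0⟩, by decide⟩,
    ⟨⟨(r 0, sr 0, sr 0), r 0⟩, by decide⟩,
    ⟨⟨(sr 0, r 0, r 0), sr 0⟩, by decide⟩,
    ⟨⟨(sr 0, r 0, sr 0), r 0⟩, by decide⟩,
    ⟨⟨(sr 0, sr 0, r 0), r 0⟩, by decide⟩,
    ⟨⟨(sr 0, sr 0, sr 0), sr 0⟩, by decide⟩]

/-- Rational parts. -/
def A0 : Fin 14 → ℤ := ![1, 1, 1, 1, 1, 1, 1, 1, 1, 1, 1, 1, 1, 1]

/-- Rational parts. -/
def A2 : Fin 14 → ℤ := ![2, 2, 0, 2, 2, 2, -1, 0, 2, 0, -1, -1, 0, 0]

/-- Rational parts. -/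
def A3 : Fin 14 → ℤ := ![3, -1, -1, 3, 3, 3, 0, 1, -1, -1, 0, 0, 1, 1]

/-- Rational parts. -/
def A4 : Fin 14 → ℤ := ![3, -1, 1, 3, 3, 3, 0, -1, -1, 1, 0, 0, -1, -1]

/-- Rational parts. -/
def A5 : Fin 14 → ℤ := ![6, 2, 0, 3, -3, 0, 0, 2, -1, 0, 0, 0, -1, -1]

/-- Rational parts. -/
def A6 : Fin 14 → ℤ := ![6, -2, 0, 3, -3, 0, 0, 0, 1, 0, 0, 0, 0, 0]

/-- Rational parts. -/
def A8 : Fin 14 → ℤ := ![6, -2, 0, 3, -3, 0, 0, 0, 1, 0, 0, 0, 0, 0]

/-- Rational parts. -/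
def A9 : Fin 14 → ℤ := ![12, 0, 2, 0, 3, -3, 0, 0, 0, -1, 0, 0, 0, 0]

/-- Rational parts. -/
def A12 : Fin 14 → ℤ := ![8, 0, 0, -4, -1, 2, -1, 0, 0, 0, -1, 2, 0, 0]

/-- Rational parts. -/
def A13 : Fin 14 → ℤ := ![8, 0, 0, -4, -1, 2, -1, 0, 0, 0, 2, -1, 0, 0]

/-- Irrational parts. -/
def B6 : Fin 14 → ℤ := ![0, 0, 0, 0, 0, 0, 0, 0, 0, 0, 0, 0, -1, 1]

/-- Irrational parts. -/
def B8 : Fin 14 → ℤ := ![0, 0, 0, 0, 0, 0, 0, 0, 0, 0, 0, 0, 1, -1]

theorem val_real (a b : ℤ) : val (2 * a, 2 * b, 0, 0) = (a : ℂ) + (b : ℂ) * (Real.sqrt 3 : ℂ) := by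
  simp only [val]
  push_cast
  ring

theorem z6_pf : ∀ x y : D3, z6 (pf (x * y)) = z6 (pf x) + z6 (pf y) := by decide +kernel

theorem inA_mul {a b : M} (ha : inA a = true) (hb : inA b = true) : inA (a * b) = true ∧
    (a * b).1.right = a.1.right * b.1.right ∧ (a * b).1.left.1 = a.1.left.1 * b.1.left.1 := by
  simp only [inA, decide_eq_true_eq] at ha hb ⊢
  refine ⟨?_, rfl, ?_⟩
  · show act (a.1.right * b.1.right) 0 = 0
    rw [act_mul, hb, ha]
  · show a.1.left.1 * (permute a.1.right b.1.left).1 = _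
    have h : act a.1.right⁻¹ 0 = 0 := by
      conv_lhs => rw [← ha]
      rw [← act_mul, inv_mul_cancel, act_one]
    simp only [permute, ofFn, h]
    rfl

/-- An exponent. -/
def e_perm : M → ZMod 12 := fun _ => 0

theorem hom_perm : ∀ a, inA a = true → ∀ b, inA b = true →
    inA (a * b) = true ∧ e_perm (a * b) = e_perm a + e_perm b := by
  intro a ha b hb
  obtain ⟨h, hr, hl⟩ := inA_mul ha hb
  refine ⟨h, ?_⟩
  simp [e_perm]

theorem mono_perm : ∀ m : M, mono inA e_perm tA m = (2 * (A2 (cls m) + 1), 2 * (0 : ℤ), 0, 0) := by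
  decide +kernel

/-- An exponent. -/
def e_tri : M → ZMod 12 := fun m => z6 (pf m.1.left.1)

theorem hom_tri : ∀ a, inA a = true → ∀ b, inA b = true →
    inA (a * b) = true ∧ e_tri (a * b) = e_tri a + e_tri b := by
  intro a ha b hb
  obtain ⟨h, hr, hl⟩ := inA_mul ha hb
  refine ⟨h, ?_⟩
  simp only [e_tri, hr, hl, z6_pf]

theorem mono_tri : ∀ m : M, mono inA e_tri tA m = (2 * (A3 (cls m)), 2 * (0 : ℤ), 0, 0) := by
  decide +kernel

/-- An exponent. -/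
def e_tri2 : M → ZMod 12 := fun m => z6 (pf m.1.left.1) + z6 (pf m.1.right)

theorem hom_tri2 : ∀ a, inA a = true → ∀ b, inA b = true →
    inA (a * b) = true ∧ e_tri2 (a * b) = e_tri2 a + e_tri2 b := by
  intro a ha b hb
  obtain ⟨h, hr, hl⟩ := inA_mul ha hb
  refine ⟨h, ?_⟩
  simp only [e_tri2, hr, hl, z6_pf]
  ring

theorem mono_tri2 : ∀ m : M, mono inA e_tri2 tA m = (2 * (A4 (cls m)), 2 * (0 : ℤ), 0, 0) := by
  decide +kernel

/-- An exponent. -/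
def e_c5 : M → ZMod 12 := fun m => z4 (ri m.1.left.1)

theorem hom_c5 : ∀ a, inB a = true → ∀ b, inB b = true →
    inB (a * b) = true ∧ e_c5 (a * b) = e_c5 a + e_c5 b := by
  decide +kernel

theorem mono_c5 : ∀ m : M, mono inB e_c5 tB m = (2 * (A5 (cls m)), 2 * (0 : ℤ), 0, 0) := by
  decide +kernel

/-- An exponent. -/
def e_c6 : M → ZMod 12 := fun m => z4 (ri m.1.left.1) + k2 m

theorem hom_c6 : ∀ a, inB a = true → ∀ b, inB b = true →
    inB (a * b) = true ∧ e_c6 (a * b) = e_c6 a + e_c6 b := by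
  decide +kernel

theorem mono_c6 : ∀ m : M, mono inB e_c6 tB m = (2 * (A6 (cls m)), 2 * B6 (cls m), 0, 0) := by
  decide +kernel

/-- An exponent. -/
def e_c8 : M → ZMod 12 := fun m => z4 (ri m.1.left.1) - k2 m

theorem hom_c8 : ∀ a, inB a = true → ∀ b, inB b = true →
    inB (a * b) = true ∧ e_c8 (a * b) = e_c8 a + e_c8 b := by
  decide +kernel

theorem mono_c8 : ∀ m : M, mono inB e_c8 tB m = (2 * (A8 (cls m)), 2 * B8 (cls m), 0, 0) := by
  decide +kernel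

/-- An exponent. -/
def e_c9 : M → ZMod 12 := fun m => z4 (ri m.1.left.2.1) + z4 (ri m.1.left.2.2)

theorem hom_c9 : ∀ a, inC a = true → ∀ b, inC b = true →
    inC (a * b) = true ∧ e_c9 (a * b) = e_c9 a + e_c9 b := by
  decide +kernel

theorem mono_c9 : ∀ m : M, mono inC e_c9 tC m = (2 * (A9 (cls m)), 2 * (0 : ℤ), 0, 0) := by
  decide +kernel

/-- An exponent. -/
def e_c12 : M → ZMod 12 := fun m => z4 (ri m.1.left.1) + z4 (ri m.1.left.2.1) + z4 (ri m.1.left.2.2) + z4 (ri m.1.right)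

theorem hom_c12 : ∀ a, inD a = true → ∀ b, inD b = true →
    inD (a * b) = true ∧ e_c12 (a * b) = e_c12 a + e_c12 b := by
  decide +kernel

theorem mono_c12 : ∀ m : M, mono inD e_c12 tD m = (2 * (A12 (cls m)), 2 * (0 : ℤ), 0, 0) := by
  decide +kernel

/-- An exponent. -/
def e_c13 : M → ZMod 12 := fun m => z4 (ri m.1.left.1) + z4 (ri m.1.left.2.1) + z4 (ri m.1.left.2.2) - z4 (ri m.1.right)

theorem hom_c13 : ∀ a, inD a = true → ∀ b, inD b = true →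
    inD (a * b) = true ∧ e_c13 (a * b) = e_c13 a + e_c13 b := by
  decide +kernel

theorem mono_c13 : ∀ m : M, mono inD e_c13 tD m = (2 * (A13 (cls m)), 2 * (0 : ℤ), 0, 0) := by
  decide +kernel

theorem cov_A : ∀ x : M, ∃ i, inA ((tA i)⁻¹ * x) = true := by decide +kernel

theorem inj_A : ∀ i j, inA ((tA i)⁻¹ * tA j) = true → i = j := by decide +kernel

theorem cov_B : ∀ x : M, ∃ i, inB ((tB i)⁻¹ * x) = true := by decide +kernel

theorem inj_B : ∀ i j, inB ((tB i)⁻¹ * tB j) = true → i = j := by decide +kernel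

theorem cov_C : ∀ x : M, ∃ i, inC ((tC i)⁻¹ * x) = true := by decide +kernel

theorem inj_C : ∀ i j, inC ((tC i)⁻¹ * tC j) = true → i = j := by decide +kernel

theorem cov_D : ∀ x : M, ∃ i, inD ((tD i)⁻¹ * x) = true := by decide +kernel

theorem inj_D : ∀ i j, inD ((tD i)⁻¹ * tD j) = true → i = j := by decide +kernel

theorem isGen_2 : Cfsg.IsGeneralizedCharacter M (fun m => (((A2 (cls m) : ℤ) : ℂ))) := by
  have h := isGen_mono inA e_perm tA (by decide +kernel) hom_perm cov_A inj_A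
  convert IsGen.sub h isGen_one using 1
  funext m
  show _ = val (mono inA e_perm tA m) - 1
  rw [mono_perm, val_real]
  push_cast
  ring

theorem isGen_3 : Cfsg.IsGeneralizedCharacter M (fun m => (((A3 (cls m) : ℤ) : ℂ))) := by
  have h := isGen_mono inA e_tri tA (by decide +kernel) hom_tri cov_A inj_A
  convert h using 1
  funext m
  rw [mono_tri, val_real]
  simp

theorem isGen_4 : Cfsg.IsGeneralizedCharacter M (fun m => (((A4 (cls m) : ℤ) : ℂ))) := by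
  have h := isGen_mono inA e_tri2 tA (by decide +kernel) hom_tri2 cov_A inj_A
  convert h using 1
  funext m
  rw [mono_tri2, val_real]
  simp

theorem isGen_5 : Cfsg.IsGeneralizedCharacter M (fun m => (((A5 (cls m) : ℤ) : ℂ))) := by
  have h := isGen_mono inB e_c5 tB (by decide +kernel) hom_c5 cov_B inj_B
  convert h using 1
  funext m
  rw [mono_c5, val_real]
  simp

theorem isGen_6 : Cfsg.IsGeneralizedCharacter M (fun m => (((A6 (cls m) : ℤ) : ℂ) + ((B6 (cls m) : ℤ) : ℂ) * (Real.sqrt 3 : ℂ))) := by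
  have h := isGen_mono inB e_c6 tB (by decide +kernel) hom_c6 cov_B inj_B
  convert h using 1
  funext m
  rw [mono_c6, val_real]

theorem isGen_8 : Cfsg.IsGeneralizedCharacter M (fun m => (((A8 (cls m) : ℤ) : ℂ) + ((B8 (cls m) : ℤ) : ℂ) * (Real.sqrt 3 : ℂ))) := by
  have h := isGen_mono inB e_c8 tB (by decide +kernel) hom_c8 cov_B inj_B
  convert h using 1
  funext m
  rw [mono_c8, val_real]

theorem isGen_9 : Cfsg.IsGeneralizedCharacter M (fun m => (((A9 (cls m) : ℤ) : ℂ))) := by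
  have h := isGen_mono inC e_c9 tC (by decide +kernel) hom_c9 cov_C inj_C
  convert h using 1
  funext m
  rw [mono_c9, val_real]
  simp

theorem isGen_12 : Cfsg.IsGeneralizedCharacter M (fun m => (((A12 (cls m) : ℤ) : ℂ))) := by
  have h := isGen_mono inD e_c12 tD (by decide +kernel) hom_c12 cov_D inj_D
  convert h using 1
  funext m
  rw [mono_c12, val_real]
  simp

theorem isGen_13 : Cfsg.IsGeneralizedCharacter M (fun m => (((A13 (cls m) : ℤ) : ℂ))) := by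
  have h := isGen_mono inD e_c13 tD (by decide +kernel) hom_c13 cov_D inj_D
  convert h using 1
  funext m
  rw [mono_c13, val_real]
  simp

end CfsgLib.Recog.ThreeCubeSFour
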