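import Cfsg.Agent.Lib.Recog.ThreeCubeSFour.Group
import Cfsg.Agent.Lib.Recog.ThreeCubeSFour.Chars

/-!
# Class facts for `3³ : S₄`
-/

set_option autoImplicit false
set_option linter.all false
set_option maxRecDepth 100000
set_option synthInstance.maxHeartbeats 400000
set_option synthInstance.maxSize 1000

open DihedralGroup

namespace CfsgLib.Recog.ThreeCubeSFour

/-- The classes inside `3³`. -/
def jc : Fin 14 → Bool := fun k => decide (k = 0 ∨ k = 3 ∨ k = 4 ∨ k = 5)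

/-- Membership of `3³`. -/
def inJ (m : M) : Bool := jc (cls m)

theorem inJ_mul : ∀ a : M, inJ a = true → ∀ b, inJ b = true → inJ (a * b) = true := by decide +kernel

theorem inJ_inv : ∀ a : M, inJ a = true → inJ a⁻¹ = true := by decide +kernel

/-- The top and the signs of the coordinates. -/
theorem inJ_iff : ∀ m : M, inJ m = true ↔
    m.1.right = 1 ∧ par m.1.left.1 = 1 ∧ par m.1.left.2.1 = 1 ∧ par m.1.left.2.2 = 1 := by
  decide +kernel

theorem inJ_conj (j : M) (hj : inJ j = true) (c : M) : inJ (c * j * c⁻¹) = true := by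
  obtain ⟨hr, h1, h2, h3⟩ := (inJ_iff j).1 hj
  have hc : ∀ i, par (coord j.1.left i) = 1 := fun i => by
    simp only [coord]; split_ifs <;> assumption
  have hperm : ∀ i, par (coord (phi c.1.right j.1.left) i) = 1 := fun i => by
    show par (coord (permute c.1.right j.1.left) i) = 1
    rw [permute, coord_ofFn]
    exact hc _
  have hright : (c * j * c⁻¹).1.right = 1 := by
    show c.1.right * j.1.right * c.1.right⁻¹ = 1
    rw [hr, mul_one, mul_inv_cancel]
  have hleft : (c * j * c⁻¹).1.left = c.1.left * phi c.1.right j.1.left * c.1.left⁻¹ := by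
    show c.1.left * phi c.1.right j.1.left *
      phi (c.1.right * j.1.right) (phi c.1.right⁻¹ c.1.left⁻¹) = _
    rw [hr, mul_one, ← MulAut.mul_apply, ← map_mul, mul_inv_cancel, map_one]
    rfl
  refine (inJ_iff _).2 ⟨hright, ?_, ?_, ?_⟩ <;> rw [hleft]
  · rw [Prod.fst_mul, Prod.fst_mul, Prod.fst_inv, map_mul, map_mul, map_inv,
      show par (phi c.1.right j.1.left).1 = 1 from hperm 0, mul_one, mul_inv_cancel]
  · rw [Prod.snd_mul, Prod.snd_mul, Prod.snd_inv, Prod.fst_mul, Prod.fst_mul, Prod.fst_inv, map_mul,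
      map_mul, map_inv, show par (phi c.1.right j.1.left).2.1 = 1 from hperm 1, mul_one, mul_inv_cancel]
  · rw [Prod.snd_mul, Prod.snd_mul, Prod.snd_inv, Prod.snd_mul, Prod.snd_mul, Prod.snd_inv, map_mul,
      map_mul, map_inv, show par (phi c.1.right j.1.left).2.2 = 1 from hperm 2, mul_one, mul_inv_cancel]

theorem inJ_comm : ∀ a : M, inJ a = true → ∀ b, inJ b = true → a * b = b * a := by decide +kernel

theorem inJ_cube : ∀ a : M, inJ a = true → a ^ 3 = 1 := by decide +kernel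

theorem card_inJ : (Finset.univ.filter fun m : M => inJ m = true).card = 27 := by decide +kernel

/-- The subgroup `3³`. -/
def JM : Subgroup M where
  carrier := {m | inJ m = true}
  one_mem' := by
    show inJ 1 = true
    decide +kernel
  mul_mem' := fun {a b} ha hb => inJ_mul a ha b hb
  inv_mem' := fun {a} ha => inJ_inv a ha

theorem mem_JM {m : M} : m ∈ JM ↔ inJ m = true := Iff.rfl

/-- The exponent taking a `3`-singular element into `3³`. -/
def pw : Fin 14 → ℕ := ![1, 1, 1, 1, 1, 1, 1, 1, 2, 2, 3, 3, 4, 4]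

/-- The classes meeting `3³` in some power. -/
def rc : Fin 14 → Bool := fun k => decide ¬(k = 0 ∨ k = 1 ∨ k = 2 ∨ k = 6 ∨ k = 7)

theorem rr_pow : ∀ m : M, rc (cls m) = true → inJ (m ^ pw (cls m)) = true ∧ m ^ pw (cls m) ≠ 1 := by
  decide +kernel

theorem rr_inv : ∀ m : M, rc (cls m) = true → rc (cls m⁻¹) = true := by decide +kernel

theorem rr_cls : ∀ k, rc k = false → k = 0 ∨ k = 1 ∨ k = 2 ∨ k = 6 ∨ k = 7 := by decide

/-- Representatives. -/
def rep : Fin 14 → M :=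
  ![1, ⟨⟨(r 0, sr 0, sr 0), r 0⟩, by decide⟩, ⟨⟨(r 0, r 0, sr 0), sr 1⟩, by decide⟩,
    ⟨⟨(r 1, r 0, r 0), r 0⟩, by decide⟩, ⟨⟨(r 1, r 1, r 1), r 0⟩, by decide⟩,
    ⟨⟨(r 1, r 1, r 0), r 0⟩, by decide⟩, 1, 1, 1, 1, 1, 1,
    ⟨⟨(r 0, r 2, sr 0), sr 2⟩, by decide⟩, ⟨⟨(r 0, r 1, sr 0), sr 2⟩, by decide⟩]

theorem cls_rep : cls (rep 1) = 1 ∧ cls (rep 2) = 2 ∧ cls (rep 3) = 3 ∧ cls (rep 5) = 5 ∧
    cls (rep 12) = 12 ∧ cls (rep 13) = 13 := by decide +kernel

theorem jClass_conj : ∀ j : M, inJ j = true → j ≠ 1 → ∃ c, c * rep (cls j) * c⁻¹ = j := by decide +kernel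

/-- The centralizer orders of the classes in `3³`. -/
def jcent : Fin 14 → ℕ := ![648, 0, 0, 108, 81, 54, 0, 0, 0, 0, 0, 0, 0, 0]

theorem card_cent_rep : ∀ k : Fin 14, jc k = true →
    (Finset.univ.filter fun c : M => c * rep k = rep k * c).card = jcent k := by decide +kernel

theorem card_cent (j : M) (hj : inJ j = true) :
    (Finset.univ.filter fun c : M => c * j = j * c).card = jcent (cls j) := by
  by_cases h1 : j = 1
  · subst h1
    have h : cls (1 : M) = 0 := by decide +kernel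
    rw [h, Finset.filter_true_of_mem fun c _ => by rw [mul_one, one_mul], Finset.card_univ,
      ← Nat.card_eq_fintype_card, card_M]
    rfl
  obtain ⟨d, hd⟩ := jClass_conj j hj h1
  rw [← card_cent_rep (cls j) hj]
  refine Finset.card_bij' (fun c _ => d⁻¹ * c * d) (fun c _ => d * c * d⁻¹) ?_ ?_ ?_ ?_
  · intro c hc
    simp only [Finset.mem_filter, Finset.mem_univ, true_and] at hc ⊢
    calc d⁻¹ * c * d * rep (cls j) = d⁻¹ * (c * (d * rep (cls j) * d⁻¹)) * d := by group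
      _ = d⁻¹ * ((d * rep (cls j) * d⁻¹) * c) * d := by rw [hd, hc]
      _ = rep (cls j) * (d⁻¹ * c * d) := by group
  · intro c hc
    simp only [Finset.mem_filter, Finset.mem_univ, true_and] at hc ⊢
    rw [← hd]
    calc d * c * d⁻¹ * (d * rep (cls j) * d⁻¹) = d * (c * rep (cls j)) * d⁻¹ := by group
      _ = d * rep (cls j) * d⁻¹ * (d * c * d⁻¹) := by rw [hc]; group
  · intro c _; group
  · intro c _; group

theorem jcent_inj : ∀ k l : Fin 14, jc k = true → jc l = true → jcent k = jcent l → k = l := by decide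

theorem inv_cases : ∀ m : M, m * m = 1 → m ≠ 1 → cls m = 1 ∨ cls m = 2 := by decide +kernel

theorem inv_rep : (rep 1 * rep 1 = 1 ∧ rep 1 ≠ 1) ∧ (rep 2 * rep 2 = 1 ∧ rep 2 ≠ 1) := by decide +kernel

theorem inv_conj1 : ∀ m : M, cls m = 1 → ∃ c, c * rep 1 * c⁻¹ = m := by decide +kernel

theorem inv_conj2 : ∀ m : M, cls m = 2 → ∃ c, c * rep 2 * c⁻¹ = m := by decide +kernel

theorem rep_comm : rep 3 * rep 1 = rep 1 * rep 3 ∧ rep 5 * rep 2 = rep 2 * rep 5 := by decide +kernel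

theorem pow81' : ∀ m : M, m ^ 9 = 1 ∨ (m ^ 9) ^ 9 ≠ 1 := by decide +kernel

theorem pow81 (m : M) (h : m ^ 81 = 1) : m ^ 9 = 1 :=
  (pow81' m).resolve_right fun h9 => h9 (by rw [← pow_mul]; exact h)

theorem cent_three : ∀ m : M, m * rep 1 = rep 1 * m → m ^ 9 = 1 →
    m = 1 ∨ m = rep 3 ∨ m = (rep 3)⁻¹ := by decide +kernel

theorem core_cases : ∀ m : M, m ^ 9 = 1 → inJ m = true ∨
    (m * (genM 3 * genM 1 * m * (genM 3 * genM 1)⁻¹)) ^ 9 ≠ 1 := by
  decide +kernel

theorem gamma_cases : ∀ m : M, inJ m = false → ∃ i : Fin 3,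
    (fun c => cls (m * c * m⁻¹ * c⁻¹) = 1 ∨ cls (m * c * m⁻¹ * c⁻¹) = 8)
      ((![genM 1, genM 2, genM 1 * genM 2 * genM 1 * genM 1] : Fin 3 → M) i) := by
  decide +kernel

theorem uCoset : ∀ m : M, cls m = 1 ∨ cls m = 8 → ∃ c, inJ (c * m * c⁻¹ * (rep 1)⁻¹) = true := by
  decide +kernel

theorem fourCoset : ∀ m : M, cls m = 12 ∨ cls m = 13 → ∃ c, inJ (c * m * c⁻¹ * (rep 12)⁻¹) = true := by
  decide +kernel

/-- The bilinear pairing of `3³` with its dual. -/
def dot (a : ZMod 3 × ZMod 3 × ZMod 3) (m : M) : ZMod 3 :=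
  a.1 * ri m.1.left.1 + a.2.1 * ri m.1.left.2.1 + a.2.2 * ri m.1.left.2.2

theorem dot_add : ∀ j : M, inJ j = true → ∀ k, inJ k = true → ∀ a, dot a (j * k) = dot a j + dot a k := by
  decide +kernel

/-- Twelve elements of the complement. -/
def mv (k : Fin 3 × Fin 2 × Fin 2) : M :=
  genM 1 ^ (k.1 : ℕ) * genM 2 ^ (k.2.1 : ℕ) * (genM 1 * genM 2 * genM 1 * genM 1) ^ (k.2.2 : ℕ)

/-- Moving a character. -/
def opA (k : Fin 3 × Fin 2 × Fin 2) (a : ZMod 3 × ZMod 3 × ZMod 3) : ZMod 3 × ZMod 3 × ZMod 3 :=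
  (dot a (mv k * rep 3 * (mv k)⁻¹),
    dot a (mv k * (genM 1 * rep 3 * (genM 1)⁻¹) * (mv k)⁻¹),
    dot a (mv k * (genM 1 * genM 1 * rep 3 * (genM 1 * genM 1)⁻¹) * (mv k)⁻¹))

/-- The first coordinate, and the other two. -/
def co (i : Fin 3) (m : M) : ZMod 3 :=
  ![ri m.1.left.1, ri m.1.left.2.1, ri m.1.left.2.2] i

theorem conj_linear : ∀ j : M, inJ j = true → ∀ k i, co i (mv k * j * (mv k)⁻¹) =
    co i (mv k * rep 3 * (mv k)⁻¹) * co 0 j +
      co i (mv k * (genM 1 * rep 3 * (genM 1)⁻¹) * (mv k)⁻¹) * co 1 j +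
      co i (mv k * (genM 1 * genM 1 * rep 3 * (genM 1 * genM 1)⁻¹) * (mv k)⁻¹) * co 2 j := by
  decide +kernel

theorem dot_opA (k : Fin 3 × Fin 2 × Fin 2) (a : ZMod 3 × ZMod 3 × ZMod 3) (j : M)
    (hj : inJ j = true) : dot (opA k a) j = dot a (mv k * j * (mv k)⁻¹) := by
  have h0 := conj_linear j hj k 0
  have h1 := conj_linear j hj k 1
  have h2 := conj_linear j hj k 2
  simp only [co, Matrix.cons_val_zero, Matrix.cons_val_one, Matrix.cons_val] at h0 h1 h2
  simp only [dot, opA]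
  rw [h0, h1, h2]
  ring

theorem orbit_four : ∀ a : ZMod 3 × ZMod 3 × ZMod 3, a ≠ 0 →
    4 ≤ (Finset.univ.image fun k => opA k a).card := by decide +kernel

theorem root_dot : ∀ j : M, inJ j = true →
    ∑ a : ZMod 3 × ZMod 3 × ZMod 3, root (z4 (dot a j)) = if j = 1 then (54, 0, 0, 0) else 0 := by
  decide +kernel

theorem z4_add : ∀ x y, z4 (x + y) = z4 x + z4 y := by decide +kernel

theorem exists_two_cube : ∃ s t : M, inJ s = true ∧ inJ t = true ∧ ∀ n : Fin 3, s ^ (n : ℕ) ≠ t :=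
  ⟨rep 3, rep 5, by decide +kernel⟩

end CfsgLib.Recog.ThreeCubeSFour
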