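import Mathlib

/-!
# Small enumerations
-/

set_option autoImplicit false
set_option linter.all false
set_option synthInstance.maxHeartbeats 400000
set_option synthInstance.maxSize 2000
set_option maxRecDepth 10000
set_option maxHeartbeats 2000000

namespace CfsgLib.Recog.ThreeCubeSFour

theorem enum_a : ∀ a ∈ ({0, 1, -1} : Finset ℤ), ∀ S ∈ ({0, 1, -1} : Finset ℤ),
    ∀ m ∈ ({0, 1, -1} : Finset ℤ), ∀ x ∈ ({0, 1, -1} : Finset ℤ), ∀ y ∈ ({0, 1, -1} : Finset ℤ),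
    a + S - m = 1 → x + y - S = -1 → a * a + S * S + m * m + x * x + y * y ≤ 2 →
    (a = 0 ∧ S = 1 ∧ m = 0 ∧ x = 0 ∧ y = 0) ∨ ((a + m = 1 ∨ a + m = -1) ∧
      a * a + S * S + m * m + x * x + y * y = 2) := by
  decide +kernel

theorem enum_b : ∀ a ∈ ({0, 1, -1} : Finset ℤ), ∀ S ∈ ({0, 1, -1} : Finset ℤ),
    ∀ m ∈ ({0, 1, -1} : Finset ℤ), ∀ x ∈ ({0, 1, -1} : Finset ℤ), ∀ y ∈ ({0, 1, -1} : Finset ℤ),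
    a + S - m = -1 → x + y - S = 0 → a * a + S * S + S * S + m * m + x * x + y * y ≤ 2 →
    (a = 0 ∧ S = 0 ∧ m = 1 ∧ x = 0 ∧ y = 0) ∨ (a = -1 ∧ S = 0 ∧ m = 0 ∧ x = 0 ∧ y = 0) := by
  decide +kernel

theorem enum_r : ∀ a ∈ ({0, 1, -1} : Finset ℤ), ∀ S ∈ ({0, 1, -1} : Finset ℤ),
    ∀ m ∈ ({0, 1, -1} : Finset ℤ), ∀ x ∈ ({0, 1, -1} : Finset ℤ), ∀ y ∈ ({0, 1, -1} : Finset ℤ),
    ∀ q ∈ ({0, 1, -1} : Finset ℤ), ∀ e ∈ ({1, -1} : Finset ℤ),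
    a + S - m = -1 → x + y - S = e → m - q = 1 →
    a * a + S * S + S * S + m * m + x * x + y * y + q * q ≤ 3 →
    ((a, S, m, x, y, q) : ℤ × ℤ × ℤ × ℤ × ℤ × ℤ) = (-1, 0, 0, e, 0, -1) ∨
    ((a, S, m, x, y, q) : ℤ × ℤ × ℤ × ℤ × ℤ × ℤ) = (-1, 0, 0, 0, e, -1) ∨
    ((a, S, m, x, y, q) : ℤ × ℤ × ℤ × ℤ × ℤ × ℤ) = (0, 0, 1, e, 0, 0) ∨
    ((a, S, m, x, y, q) : ℤ × ℤ × ℤ × ℤ × ℤ × ℤ) = (0, 0, 1, 0, e, 0) ∨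
    (e = 1 ∧ ((a, S, m, x, y, q) : ℤ × ℤ × ℤ × ℤ × ℤ × ℤ) = (0, -1, 0, 0, 0, -1)) := by
  decide +kernel

end CfsgLib.Recog.ThreeCubeSFour
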