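import Cfsg.Agent.Lib.Recog.ThreeCubeSFour.Algebra
import Cfsg.Agent.Lib.Recog.ThreeCubeSFour.Enum

/-!
# Constituents shared by six exceptional generalized characters

`c a` (`a < 6`) are integral coefficient vectors with prescribed inner products, `d` are degrees and
`B`, `C` the values at the two classes of involutions. Changing the signs of some basis vectors and
subtracting multiples of `d` from `B` and `C` preserves all the hypotheses, and the constituents can
only be shared in one pattern.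
-/

set_option autoImplicit false
set_option linter.all false
set_option maxHeartbeats 2000000
set_option maxRecDepth 10000
set_option synthInstance.maxHeartbeats 400000
set_option synthInstance.maxSize 2000

open Finset

namespace CfsgLib.Recog.ThreeCubeSFour

variable {ι : Type*} [Fintype ι] [DecidableEq ι]

/-- The inner products. -/
def gramP : Fin 6 → Fin 6 → ℤ :=
  ![![3, -1, 1, -1, -1, -1], ![-1, 3, -1, 0, -1, 1], ![1, -1, 2, 0, 0, 0],
    ![-1, 0, 0, 2, 1, 1], ![-1, -1, 0, 1, 4, 1], ![-1, 1, 0, 1, 1, 4]]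

/-- The coefficients of the trivial character. -/
def trivP : Fin 6 → ℤ := ![0, 0, 0, 0, 1, 1]

/-- The hypotheses. -/
structure Sys (o : ι) (d : ι → ℤ) (B C : ι → ℂ) (c : Fin 6 → ι → ℤ) (K L M : ℂ) : Prop where
  dne : ∀ i, d i ≠ 0
  d_o : d o = 1
  c_o : ∀ a, c a o = trivP a
  G : ∀ a b, ∑ i, c a i * c b i = gramP a b
  hd : ∀ a, ∑ i, c a i * d i = 0
  hB : ∀ a, ∑ i, (c a i : ℂ) * B i = 0
  hC : ∀ a, ∑ i, (c a i : ℂ) * C i = 0
  Quu : ∀ a, ∑ i, (c a i : ℂ) * (B i ^ 2 / (d i : ℂ)) = (![2, 0, 0, 0, 0, 1] : Fin 6 → ℂ) a * K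
  Quv : ∀ a, ∑ i, (c a i : ℂ) * (B i * C i / (d i : ℂ)) = (![0, 0, 0, 0, 2, 1] : Fin 6 → ℂ) a * L
  Qvv : ∀ a, ∑ i, (c a i : ℂ) * (C i ^ 2 / (d i : ℂ)) = (![0, 2, 0, 0, 2, 3] : Fin 6 → ℂ) a * M
  hK : K ≠ 0
  hM : M ≠ 0
  hL : L ^ 2 = K * M

/-- The conclusion: a constituent of the second vector of signed degree three. -/
def Concl (d : ι → ℤ) (c : Fin 6 → ι → ℤ) : Prop :=
  ∃ i, c 1 i * d i = 3 ∧ (c 1 i = 1 ∨ c 1 i = -1)

variable {o : ι} {d : ι → ℤ} {B C : ι → ℂ} {c : Fin 6 → ι → ℤ} {K L M : ℂ}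

theorem Sys.sq_eps {ε : ι → ℤ} (hε : ∀ i, ε i = 1 ∨ ε i = -1) (i : ι) : ε i * ε i = 1 := by
  rcases hε i with e | e <;> simp [e]

/-- Changing signs. -/
theorem Sys.flip (h : Sys o d B C c K L M) (ε : ι → ℤ) (hε : ∀ i, ε i = 1 ∨ ε i = -1) (ho : ε o = 1) :
    Sys o (fun i => ε i * d i) (fun i => (ε i : ℂ) * B i) (fun i => (ε i : ℂ) * C i)
      (fun a i => ε i * c a i) K L M where
  dne i := mul_ne_zero (by rcases hε i with e | e <;> simp [e]) (h.dne i)
  d_o := by simp [ho, h.d_o]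
  c_o a := by simp [ho, h.c_o]
  G a b := by
    rw [← h.G a b]
    exact sum_congr rfl fun i _ => by rcases hε i with e | e <;> simp [e]
  hd a := by
    rw [← h.hd a]
    exact sum_congr rfl fun i _ => by rcases hε i with e | e <;> simp [e]
  hB a := by
    rw [← h.hB a]
    exact sum_congr rfl fun i _ => by rcases hε i with e | e <;> simp [e]
  hC a := by
    rw [← h.hC a]
    exact sum_congr rfl fun i _ => by rcases hε i with e | e <;> simp [e]
  Quu a := by
    rw [← h.Quu a]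
    exact sum_congr rfl fun i _ => by rcases hε i with e | e <;> simp [e] <;> ring
  Quv a := by
    rw [← h.Quv a]
    exact sum_congr rfl fun i _ => by rcases hε i with e | e <;> simp [e] <;> ring
  Qvv a := by
    rw [← h.Qvv a]
    exact sum_congr rfl fun i _ => by rcases hε i with e | e <;> simp [e] <;> ring
  hK := h.hK
  hM := h.hM
  hL := h.hL

theorem Concl.of_flip {ε : ι → ℤ} (hε : ∀ i, ε i = 1 ∨ ε i = -1)
    (h : Concl (fun i => ε i * d i) (fun a i => ε i * c a i)) : Concl d c := by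
  obtain ⟨i, h1, h2⟩ := h
  refine ⟨i, ?_, ?_⟩
  · rcases hε i with e | e <;> simp [e] at h1 ⊢ <;> linarith
  · rcases hε i with e | e <;> simp [e] at h2 ⊢ <;> omega

/-- Subtracting multiples of the degrees. -/
theorem Sys.gauge (h : Sys o d B C c K L M) (σ ρ : ℂ) :
    Sys o d (fun i => B i - σ * d i) (fun i => C i - ρ * d i) c K L M := by
  have hd' : ∀ a, ∑ i, (c a i : ℂ) * (d i : ℂ) = 0 := fun a => by exact_mod_cast h.hd a
  have hd0 : ∀ i, (d i : ℂ) ≠ 0 := fun i => Int.cast_ne_zero.2 (h.dne i)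
  refine ⟨h.dne, h.d_o, h.c_o, h.G, h.hd, fun a => ?_, fun a => ?_, fun a => ?_, fun a => ?_,
    fun a => ?_, h.hK, h.hM, h.hL⟩
  · simp only [mul_sub, sum_sub_distrib, h.hB a, mul_left_comm (c a _ : ℂ) σ, ← mul_sum, hd',
      mul_zero, sub_zero]
  · simp only [mul_sub, sum_sub_distrib, h.hC a, mul_left_comm (c a _ : ℂ) ρ, ← mul_sum, hd',
      mul_zero, sub_zero]
  · have e : ∀ i, (c a i : ℂ) * ((B i - σ * d i) ^ 2 / d i) = (c a i : ℂ) * (B i ^ 2 / d i)
        - 2 * σ * ((c a i : ℂ) * B i) + σ ^ 2 * ((c a i : ℂ) * d i) := fun i => by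
      field_simp [hd0 i]; ring
    simp only [e, sum_add_distrib, sum_sub_distrib, ← mul_sum, h.hB a, hd', h.Quu a]
    ring
  · have e : ∀ i, (c a i : ℂ) * ((B i - σ * d i) * (C i - ρ * d i) / d i) =
        (c a i : ℂ) * (B i * C i / d i) - σ * ((c a i : ℂ) * C i) - ρ * ((c a i : ℂ) * B i)
        + σ * ρ * ((c a i : ℂ) * d i) := fun i => by
      field_simp [hd0 i]; ring
    simp only [e, sum_add_distrib, sum_sub_distrib, ← mul_sum, h.hB a, h.hC a, hd', h.Quv a]
    ring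
  · have e : ∀ i, (c a i : ℂ) * ((C i - ρ * d i) ^ 2 / d i) = (c a i : ℂ) * (C i ^ 2 / d i)
        - 2 * ρ * ((c a i : ℂ) * C i) + ρ ^ 2 * ((c a i : ℂ) * d i) := fun i => by
      field_simp [hd0 i]; ring
    simp only [e, sum_add_distrib, sum_sub_distrib, ← mul_sum, h.hC a, hd', h.Qvv a]
    ring

/-- A norm concentrated on a finite set. -/
theorem rest_zero (v : ι → ℤ) (s : Finset ι) (h : ∑ i, v i * v i = ∑ i ∈ s, v i * v i) :
    ∀ i, i ∉ s → v i = 0 := by
  intro i hi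
  by_contra hne
  have h1 : ∑ j ∈ insert i s, v j * v j ≤ ∑ j, v j * v j :=
    sum_le_univ_sum_of_nonneg fun j => mul_self_nonneg (v j)
  rw [sum_insert hi] at h1
  have := mul_self_pos.2 hne
  linarith

/-- A norm exceeding that on a finite set by one. -/
theorem rest_one (v : ι → ℤ) (s : Finset ι) (h : ∑ i, v i * v i = ∑ i ∈ s, v i * v i + 1) :
    ∃ z, z ∉ s ∧ (v z = 1 ∨ v z = -1) ∧ ∀ i, i ∉ insert z s → v i = 0 := by
  obtain ⟨z, hz, hvz⟩ : ∃ z, z ∉ s ∧ v z ≠ 0 := by
    by_contra hne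
    push Not at hne
    have : ∑ i ∈ s, v i * v i = ∑ i, v i * v i :=
      sum_subset (subset_univ s) fun i _ hi => by rw [hne i hi, mul_zero]
    omega
  have h1 : ∑ j ∈ insert z s, v j * v j ≤ ∑ j, v j * v j :=
    sum_le_univ_sum_of_nonneg fun j => mul_self_nonneg (v j)
  rw [sum_insert hz, h] at h1
  have hp := mul_self_pos.2 hvz
  have hsq : v z * v z = 1 := by omega
  refine ⟨z, hz, mul_self_eq_one_iff.1 hsq, rest_zero v _ ?_⟩
  rw [sum_insert hz, h, hsq, add_comm]

/-- A coefficient in a norm at most three. -/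
theorem small_coeff {x n : ℤ} (h : x * x ≤ n) (hn : n ≤ 3) : x = 0 ∨ x = 1 ∨ x = -1 := by
  have h1 : x < 2 := by nlinarith
  have h2 : -2 < x := by nlinarith
  omega

/-- The coordinates of a vector at seven places. -/
abbrev Seven := ℤ × ℤ × ℤ × ℤ × ℤ × ℤ × ℤ

theorem mem_three {x : ℤ} (h : x = 0 ∨ x = 1 ∨ x = -1) : x ∈ ({0, 1, -1} : Finset ℤ) := by simpa using h

/-- The reciprocal of a nonzero integer is small. -/
theorem no_sum_eq {p q n k : ℤ} (hp : p ≠ 0) (hq : q ≠ 0) (hk : 0 ≤ k) (hn : k + 1 < n)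
    (h : (n : ℂ) = k / (p : ℂ) + 1 / (q : ℂ)) : False := by
  have hp' : (p : ℂ) ≠ 0 := Int.cast_ne_zero.2 hp
  have hq' : (q : ℂ) ≠ 0 := Int.cast_ne_zero.2 hq
  field_simp at h
  have h' : p * q * n = k * q + p := by
    have : ((p * q * n : ℤ) : ℂ) = ((k * q + p : ℤ) : ℂ) := by push_cast; linear_combination h
    exact_mod_cast this
  have h1 : |p * q * n| ≤ k * |q| + |p| := by
    rw [h']
    refine (abs_add_le _ _).trans ?_
    rw [abs_mul, abs_of_nonneg hk]
  rw [abs_mul, abs_mul, abs_of_pos (show (0 : ℤ) < n by omega)] at h1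
  have hp1 : 1 ≤ |p| := Int.one_le_abs hp
  have hq1 : 1 ≤ |q| := Int.one_le_abs hq
  nlinarith [mul_le_mul_of_nonneg_right hp1 (show 0 ≤ |q| by omega), mul_le_mul_of_nonneg_left hq1 (show 0 ≤ |p| by omega),
    mul_le_mul_of_nonneg_left (show k + 2 ≤ n by omega) (show 0 ≤ |p| * |q| by positivity)]

/-- A vector of norm two supported at two given places. -/
theorem eq_two (v : ι → ℤ) {p q : ι} (h : p ≠ q) (hn : ∑ i, v i * v i = 2) (hp : v p * v p = 1)
    (hq : v q * v q = 1) : v = Pi.single p (v p) + Pi.single q (v q) := by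
  have hz := rest_zero v {p, q} (by rw [sum_pair h, hn, hp, hq]; norm_num)
  funext i
  by_cases h1 : i = p
  · subst h1; simp [h.symm, h]
  by_cases h2 : i = q
  · subst h2; simp [h1, Ne.symm h1]
  simp [h1, h2, hz i (by simp [h1, h2])]

/-- A vector of norm three supported at three given places. -/
theorem eq_three (v : ι → ℤ) {p q r : ι} (hpq : p ≠ q) (hpr : p ≠ r) (hqr : q ≠ r)
    (hn : ∑ i, v i * v i = 3) (hp : v p * v p = 1) (hq : v q * v q = 1) (hr : v r * v r = 1) :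
    v = Pi.single p (v p) + Pi.single q (v q) + Pi.single r (v r) := by
  have hz := rest_zero v {p, q, r}
    (by rw [sum_insert (by simp [hpq, hpr]), sum_pair hqr, hn, hp, hq, hr]; norm_num)
  funext i
  by_cases h1 : i = p
  · subst h1; simp [hpq, hpr, hpq.symm, hpr.symm]
  by_cases h2 : i = q
  · subst h2; simp [h1, Ne.symm h1, hqr, hqr.symm]
  by_cases h3 : i = r
  · subst h3; simp [h1, Ne.symm h1, h2, Ne.symm h2]
  simp [h1, h2, h3, hz i (by simp [h1, h2, h3])]

/-- A vector of norm four supported at four given places. -/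
theorem eq_four (v : ι → ℤ) {p q r s : ι} (hpq : p ≠ q) (hpr : p ≠ r) (hps : p ≠ s) (hqr : q ≠ r)
    (hqs : q ≠ s) (hrs : r ≠ s) (hn : ∑ i, v i * v i = 4) (hp : v p * v p = 1) (hq : v q * v q = 1)
    (hr : v r * v r = 1) (hs : v s * v s = 1) :
    v = Pi.single p (v p) + Pi.single q (v q) + Pi.single r (v r) + Pi.single s (v s) := by
  have hz := rest_zero v {p, q, r, s}
    (by rw [sum_insert (by simp [hpq, hpr, hps]), sum_insert (by simp [hqr, hqs]), sum_pair hrs, hn,
      hp, hq, hr, hs]; norm_num)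
  funext i
  by_cases h1 : i = p
  · subst h1; simp [hpq, hpr, hps, hpq.symm, hpr.symm, hps.symm]
  by_cases h2 : i = q
  · subst h2; simp [h1, Ne.symm h1, hqr, hqs, hqr.symm, hqs.symm]
  by_cases h3 : i = r
  · subst h3; simp [h1, Ne.symm h1, h2, Ne.symm h2, hrs, hrs.symm]
  by_cases h4 : i = s
  · subst h4; simp [h1, Ne.symm h1, h2, Ne.symm h2, h3, Ne.symm h3]
  simp [h1, h2, h3, h4, hz i (by simp [h1, h2, h3, h4])]

/-- The labelled configuration of the first four vectors. -/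
structure Labels (d : ι → ℤ) (B C : ι → ℂ) (c : Fin 6 → ι → ℤ) (o E2 S E12 E3 E4 T E13 : ι) : Prop where
  nd : [o, E2, S, E12, E3, E4, T, E13].Nodup
  v : c 0 = Pi.single E2 1 + Pi.single S 1 - Pi.single E12 1
  w : c 1 = Pi.single E3 1 + Pi.single E4 1 - Pi.single S 1
  a : c 2 = Pi.single S 1 - Pi.single T 1
  b : c 3 = Pi.single E12 1 - Pi.single E13 1
  bS : B S = 0
  b3 : B E3 = 0
  b4 : B E4 = 0
  cS : C S = 0
  c2 : C E2 = 0
  c12 : C E12 = 0

theorem finish (h : Sys o d B C c K L M) {E2 S E12 E3 E4 T E13 : ι}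
    (l : Labels d B C c o E2 S E12 E3 E4 T E13) : Concl d c := by
  obtain ⟨hnd, hv, hw, ha, hb, hbS, hb3, hb4, hcS, hc2, hc12⟩ := l
  obtain ⟨⟨o2, oS, o12, o3, o4, oT, o13⟩, ⟨n2S, n212, n23, n24, n2T, n213⟩,
    ⟨nS12, nS3, nS4, nST, nS13⟩, ⟨n123, n124, n12T, n1213⟩, ⟨n34, n3T, n313⟩, ⟨n4T, n413⟩, nT13⟩ :
      (o ≠ E2 ∧ o ≠ S ∧ o ≠ E12 ∧ o ≠ E3 ∧ o ≠ E4 ∧ o ≠ T ∧ o ≠ E13) ∧
      (E2 ≠ S ∧ E2 ≠ E12 ∧ E2 ≠ E3 ∧ E2 ≠ E4 ∧ E2 ≠ T ∧ E2 ≠ E13) ∧
      (S ≠ E12 ∧ S ≠ E3 ∧ S ≠ E4 ∧ S ≠ T ∧ S ≠ E13) ∧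
      (E12 ≠ E3 ∧ E12 ≠ E4 ∧ E12 ≠ T ∧ E12 ≠ E13) ∧
      (E3 ≠ E4 ∧ E3 ≠ T ∧ E3 ≠ E13) ∧ (E4 ≠ T ∧ E4 ≠ E13) ∧ T ≠ E13 := by
    simpa [and_assoc] using hnd
  have hd0 : ∀ i, (d i : ℂ) ≠ 0 := fun i => Int.cast_ne_zero.2 (h.dne i)
  -- evaluation of sums against the four known vectors
  have dot : ∀ {R : Type} [CommRing R] (f : ι → R),
      ((∑ i, (c 0 i : R) * f i) = f E2 + f S - f E12) ∧ ((∑ i, (c 1 i : R) * f i) = f E3 + f E4 - f S) ∧
      ((∑ i, (c 2 i : R) * f i) = f S - f T) ∧ ((∑ i, (c 3 i : R) * f i) = f E12 - f E13) := by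
    intro R _ f
    refine ⟨?_, ?_, ?_, ?_⟩ <;>
      simp [hv, hw, ha, hb, Pi.single_apply, add_mul, sub_mul, sum_add_distrib, sum_sub_distrib]
  have vd : (d E2 : ℂ) + d S - d E12 = 0 :=
    (dot fun i => (d i : ℂ)).1.symm.trans (by exact_mod_cast h.hd 0)
  have wd : (d E3 : ℂ) + d E4 - d S = 0 :=
    (dot fun i => (d i : ℂ)).2.1.symm.trans (by exact_mod_cast h.hd 1)
  have ad : (d S : ℂ) - d T = 0 :=
    (dot fun i => (d i : ℂ)).2.2.1.symm.trans (by exact_mod_cast h.hd 2)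
  have bd : (d E12 : ℂ) - d E13 = 0 :=
    (dot fun i => (d i : ℂ)).2.2.2.symm.trans (by exact_mod_cast h.hd 3)
  have vB := h.hB 0; rw [(dot _).1, hbS, add_zero, sub_eq_zero] at vB
  have wC := h.hC 1; rw [(dot _).2.1, hcS, sub_zero, add_eq_zero_iff_eq_neg'] at wC
  have bT : B T = 0 := by
    have := h.hB 2; rw [(dot _).2.2.1, hbS, zero_sub, neg_eq_zero] at this; exact this
  have cT : C T = 0 := by
    have := h.hC 2; rw [(dot _).2.2.1, hcS, zero_sub, neg_eq_zero] at this; exact this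
  have c13 : C E13 = 0 := by
    have := h.hC 3; rw [(dot _).2.2.2, hc12, zero_sub, neg_eq_zero] at this; exact this
  have b13 : B E13 = B E12 := by
    have := h.hB 3; rw [(dot _).2.2.2, sub_eq_zero] at this; exact this.symm
  set Cb := B E12 with hCb
  set D := C E3 with hD'
  have e7 : Cb ^ 2 * (1 / (d E2 : ℂ) - 1 / (d E12 : ℂ)) = 2 * K := by
    have := h.Quu 0; rw [(dot _).1, vB, hbS] at this
    simp at this
    linear_combination this
  have e8 : D ^ 2 * (1 / (d E3 : ℂ) + 1 / (d E4 : ℂ)) = 2 * M := by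
    have := h.Qvv 1; rw [(dot _).2.1, wC, hcS] at this
    simp at this
    linear_combination this
  have hC0 : Cb ≠ 0 := fun e => h.hK (by rw [e] at e7; simp at e7; exact e7)
  have hD0 : D ≠ 0 := fun e => h.hM (by rw [e] at e8; simp at e8; exact e8)
  -- the two vectors of norm four
  have rcases' : ∀ k : Fin 6, ∀ e : ℤ, (k = 4 ∧ e = -1) ∨ (k = 5 ∧ e = 1) →
      (c k E2 = -1 ∧ c k S = 0 ∧ c k E12 = 0 ∧ c k E3 = e ∧ c k E4 = 0 ∧ c k E13 = -1 ∧
        c k = Pi.single o 1 + Pi.single E2 (-1) + Pi.single E3 e + Pi.single E13 (-1)) ∨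
      (c k E2 = -1 ∧ c k S = 0 ∧ c k E12 = 0 ∧ c k E3 = 0 ∧ c k E4 = e ∧ c k E13 = -1 ∧
        c k = Pi.single o 1 + Pi.single E2 (-1) + Pi.single E4 e + Pi.single E13 (-1)) ∨
      (∃ z q, z ∉ ({o, E2, S, E12, E3, E4, T, E13} : Finset ι) ∧ (q = 1 ∨ q = -1) ∧
        c k = Pi.single o 1 + Pi.single E12 1 + Pi.single E3 e + Pi.single z q) ∨
      (∃ z q, z ∉ ({o, E2, S, E12, E3, E4, T, E13} : Finset ι) ∧ (q = 1 ∨ q = -1) ∧
        c k = Pi.single o 1 + Pi.single E12 1 + Pi.single E4 e + Pi.single z q) ∨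
      (k = 5 ∧ c k = Pi.single o 1 + Pi.single S (-1) + Pi.single T (-1) + Pi.single E13 (-1)) := by
    intro k e hk
    set r := c k with hr
    have hcast : ∀ j : Fin 6, ∑ i, c j i * r i = gramP j k := fun j => h.G j k
    have g0 : r E2 + r S - r E12 = -1 := by
      have := (dot r).1; simp only [Int.cast_id] at this
      rw [← this, hcast 0]; rcases hk with ⟨rfl, rfl⟩ | ⟨rfl, rfl⟩ <;> rfl
    have g1 : r E3 + r E4 - r S = e := by
      have := (dot r).2.1; simp only [Int.cast_id] at this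
      rw [← this, hcast 1]; rcases hk with ⟨rfl, rfl⟩ | ⟨rfl, rfl⟩ <;> rfl
    have g2 : r S = r T := by
      have := (dot r).2.2.1; simp only [Int.cast_id] at this
      rw [← sub_eq_zero, ← this, hcast 2]; rcases hk with ⟨rfl, rfl⟩ | ⟨rfl, rfl⟩ <;> rfl
    have g3 : r E12 - r E13 = 1 := by
      have := (dot r).2.2.2; simp only [Int.cast_id] at this
      rw [← this, hcast 3]; rcases hk with ⟨rfl, rfl⟩ | ⟨rfl, rfl⟩ <;> rfl
    have hro : r o = 1 := by
      rw [hr, h.c_o]; rcases hk with ⟨rfl, rfl⟩ | ⟨rfl, rfl⟩ <;> rfl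
    have hn : ∑ i, r i * r i = 4 := by
      rw [hr, h.G]; rcases hk with ⟨rfl, rfl⟩ | ⟨rfl, rfl⟩ <;> rfl
    set s : Finset ι := {o, E2, S, E12, E3, E4, T, E13} with hs
    have hsum : ∑ i ∈ s, r i * r i = 1 + r E2 * r E2 + r S * r S + r E12 * r E12 + r E3 * r E3 +
        r E4 * r E4 + r T * r T + r E13 * r E13 := by
      rw [hs, sum_insert (by simp [o2, oS, o12, o3, o4, oT, o13]),
        sum_insert (by simp [n2S, n212, n23, n24, n2T, n213]), sum_insert (by simp [nS12, nS3, nS4, nST, nS13]),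
        sum_insert (by simp [n123, n124, n12T, n1213]), sum_insert (by simp [n34, n3T, n313]),
        sum_insert (by simp [n4T, n413]), sum_insert (by simp [nT13]), sum_singleton, hro]
      ring
    have hle : ∑ i ∈ s, r i * r i ≤ 4 := hn ▸ sum_le_univ_sum_of_nonneg fun i => mul_self_nonneg (r i)
    rw [hsum, ← g2] at hle
    have hv : ∀ x, x * x ≤ 3 → x ∈ ({0, 1, -1} : Finset ℤ) := fun x hx =>
      mem_three (small_coeff hx le_rfl)
    have p2 := mul_self_nonneg (r E2)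
    have pS := mul_self_nonneg (r S)
    have p12 := mul_self_nonneg (r E12)
    have p3 := mul_self_nonneg (r E3)
    have p4 := mul_self_nonneg (r E4)
    have p13 := mul_self_nonneg (r E13)
    have hcase := enum_r (r E2) (hv _ (by linarith)) (r S) (hv _ (by linarith)) (r E12) (hv _ (by linarith))
      (r E3) (hv _ (by linarith)) (r E4) (hv _ (by linarith)) (r E13) (hv _ (by linarith)) e
      (by rcases hk with ⟨-, rfl⟩ | ⟨-, rfl⟩ <;> simp) g0 g1 g3 (by linarith)
    have hesq : e * e = 1 := by rcases hk with ⟨-, rfl⟩ | ⟨-, rfl⟩ <;> rfl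
    simp only [Prod.mk.injEq] at hcase
    rcases hcase with ⟨a1, a2, a3, a4, a5, a6⟩ | ⟨a1, a2, a3, a4, a5, a6⟩ | ⟨a1, a2, a3, a4, a5, a6⟩ |
      ⟨a1, a2, a3, a4, a5, a6⟩ | ⟨he, a1, a2, a3, a4, a5, a6⟩
    · refine Or.inl ⟨a1, a2, a3, a4, a5, a6, ?_⟩
      rw [eq_four r o2 o3 o13 n23 n213 n313 hn (by rw [hro]; rfl) (by rw [a1]; rfl) (by rw [a4, hesq])
        (by rw [a6]; rfl), hro, a1, a4, a6]
    · refine Or.inr (Or.inl ⟨a1, a2, a3, a4, a5, a6, ?_⟩)
      rw [eq_four r o2 o4 o13 n24 n213 n413 hn (by rw [hro]; rfl) (by rw [a1]; rfl) (by rw [a5, hesq])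
        (by rw [a6]; rfl), hro, a1, a5, a6]
    · obtain ⟨z, hz, hq, hrest⟩ := rest_one r s
        (by rw [hn, hsum, ← g2, a1, a2, a3, a4, a5, a6, hesq]; norm_num)
      refine Or.inr (Or.inr (Or.inl ⟨z, r z, hz, hq, ?_⟩))
      simp only [hs, mem_insert, mem_singleton, not_or] at hz
      obtain ⟨zo, z2, zS, z12, z3, z4, zT, z13⟩ := hz
      conv_lhs => rw [eq_four r o12 o3 (Ne.symm zo) n123 (Ne.symm z12) (Ne.symm z3) hn (by rw [hro]; rfl)
        (by rw [a3]; rfl) (by rw [a4, hesq]) (by rcases hq with e | e <;> rw [e] <;> rfl), hro, a3, a4]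
    · obtain ⟨z, hz, hq, hrest⟩ := rest_one r s
        (by rw [hn, hsum, ← g2, a1, a2, a3, a4, a5, a6, hesq]; norm_num)
      refine Or.inr (Or.inr (Or.inr (Or.inl ⟨z, r z, hz, hq, ?_⟩)))
      simp only [hs, mem_insert, mem_singleton, not_or] at hz
      obtain ⟨zo, z2, zS, z12, z3, z4, zT, z13⟩ := hz
      conv_lhs => rw [eq_four r o12 o4 (Ne.symm zo) n124 (Ne.symm z12) (Ne.symm z4) hn (by rw [hro]; rfl)
        (by rw [a3]; rfl) (by rw [a5, hesq]) (by rcases hq with e | e <;> rw [e] <;> rfl), hro, a3, a5]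
    · refine Or.inr (Or.inr (Or.inr (Or.inr ⟨?_, ?_⟩)))
      · rcases hk with ⟨-, e'⟩ | ⟨e', -⟩
        · omega
        · exact e'
      rw [eq_four r oS oT o13 nST nS13 nT13 hn (by rw [hro]; rfl) (by rw [a2]; rfl)
        (by rw [← g2, a2]; rfl) (by rw [a6]; rfl), hro, ← g2, a2, a6]
  have hdo : (d o : ℂ) = 1 := by rw [h.d_o, Int.cast_one]
  -- the four sums against a vector in single form
  have H := fun k => And.intro (show ∑ i, (c k i : ℂ) * (d i : ℂ) = 0 by exact_mod_cast h.hd k)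
    (And.intro (h.hB k) (And.intro (h.hC k) (And.intro (h.Quu k) (And.intro (h.Quv k) (h.Qvv k)))))
  have evs : ∀ (f : ι → ℂ) (p : ι) (e : ℤ), ∑ i, ((Pi.single p e : ι → ℤ) i : ℂ) * f i = e * f p := by
    intro f p e; simp [Pi.single_apply]
  -- the analogue of the first vector of norm four
  have key : ∀ (X Y : ι) (D' : ℂ), (∀ z, z ∉ ({o, E2, S, E12, E3, E4, T, E13} : Finset ι) → z ≠ Y) →
      B X = 0 → B Y = 0 → C X = D' → C Y = -D' → D' ≠ 0 → (d X : ℂ) + d Y = d S →
      D' ^ 2 * (1 / (d X : ℂ) + 1 / (d Y : ℂ)) = 2 * M → c 1 X = 1 →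
      (∃ z q, z ∉ ({o, E2, S, E12, E3, E4, T, E13} : Finset ι) ∧ (q = 1 ∨ q = -1) ∧
        c 4 = Pi.single o 1 + Pi.single E12 1 + Pi.single Y (-1) + Pi.single z q) →
      ((∃ z q, z ∉ ({o, E2, S, E12, E3, E4, T, E13} : Finset ι) ∧ (q = 1 ∨ q = -1) ∧
        c 5 = Pi.single o 1 + Pi.single E12 1 + Pi.single X 1 + Pi.single z q) ∨
       (∃ z q, z ∉ ({o, E2, S, E12, E3, E4, T, E13} : Finset ι) ∧ (q = 1 ∨ q = -1) ∧
        c 5 = Pi.single o 1 + Pi.single E12 1 + Pi.single Y 1 + Pi.single z q)) →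
      X ∈ ({E3, E4} : Finset ι) → Y ∈ ({E3, E4} : Finset ι) → X ≠ Y → Concl d c := by
    intro X Y D' _ hbX hbY hcX hcY hD'0 hdXY hMXY hwX hr1 hr2 hXm hYm hXY
    obtain ⟨z, q, hz, hq, hr1⟩ := hr1
    simp only [mem_insert, mem_singleton, not_or] at hz hXm hYm
    obtain ⟨zo, z2, zS, z12, z3, z4, zT, z13⟩ := hz
    have hXo : X ≠ o ∧ X ≠ E12 ∧ X ≠ z := by
      rcases hXm with rfl | rfl
      · exact ⟨o3.symm, n123.symm, Ne.symm z3⟩
      · exact ⟨o4.symm, n124.symm, Ne.symm z4⟩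
    have hYo : Y ≠ o ∧ Y ≠ E12 ∧ Y ≠ z := by
      rcases hYm with rfl | rfl
      · exact ⟨o3.symm, n123.symm, Ne.symm z3⟩
      · exact ⟨o4.symm, n124.symm, Ne.symm z4⟩
    obtain ⟨f1, f2, f3, f4, f5, f6⟩ := H 4
    simp only [hr1, Pi.add_apply, Int.cast_add, add_mul, sum_add_distrib, evs, Int.cast_one,
      Int.cast_neg, one_mul, hdo, div_one, hbY, hcY, hc12, ← hCb] at f1 f2 f3 f4 f5 f6
    simp at f4 f5 f6
    have hq2 : (q : ℂ) ^ 2 = 1 := by rcases hq with rfl | rfl <;> norm_num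
    have hq0 : (q : ℂ) ≠ 0 := by rcases hq with rfl | rfl <;> norm_num
    set x5 := -(q : ℂ) * d z with hx5
    have hx50 : x5 ≠ 0 := mul_ne_zero (neg_ne_zero.2 hq0) (hd0 z)
    have hz5 : ∀ u w : ℂ, (q : ℂ) * (u * w / d z) = -((-(q : ℂ) * u) * (-(q : ℂ) * w) / x5) := by
      intro u w
      rw [hx5]
      field_simp [hd0 z]
    have bz : -(q : ℂ) * B z = B o + Cb := by linear_combination -f2
    have cz : -(q : ℂ) * C z = C o + D' := by linear_combination -f3
    rw [pow_two (B z), hz5, bz] at f4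
    rw [hz5, bz, cz] at f5
    rw [pow_two (C z), hz5, cz] at f6
    rcases hr2 with hr2 | hr2
    · exfalso
      obtain ⟨z', q', hz', hq', hr2⟩ := hr2
      simp only [mem_insert, mem_singleton, not_or] at hz'
      obtain ⟨zo', z2', zS', z12', z3', z4', zT', z13'⟩ := hz'
      have hi := h.G 5 4
      have hXz' : X ≠ z' := by rcases hXm with rfl | rfl <;> [exact Ne.symm z3'; exact Ne.symm z4']
      have hYz' : Y ≠ z' := by rcases hYm with rfl | rfl <;> [exact Ne.symm z3'; exact Ne.symm z4']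
      simp only [hr1, hr2, Pi.add_apply, add_mul, mul_add, sum_add_distrib, Pi.single_apply, ite_mul,
        mul_ite, mul_one, mul_zero, zero_mul, one_mul, sum_ite_eq', mem_univ, if_true, o12, o12.symm,
        hXo, hXo.1.symm, hXo.2.1.symm, hYo, hYo.1.symm, hYo.2.1.symm, hXY, hXY.symm, zo, Ne.symm zo, z12,
        Ne.symm z12, zo', Ne.symm zo', z12', Ne.symm z12', hXz', hXz'.symm, hYz', hYz'.symm,
        hXo.2.2.symm, hYo.2.2.symm, if_false, add_zero, zero_add, gramP] at hi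
      have hzz : z' = z ∧ q' * q = -1 := by
        by_cases hzz : z' = z
        · subst hzz
          simp at hi
          exact ⟨rfl, by linarith⟩
        · simp [hzz, Ne.symm hzz] at hi
      obtain ⟨rfl, hqq⟩ := hzz
      have hqq' : q' = -q := by rcases hq with rfl | rfl <;> rcases hq' with rfl | rfl <;> simp_all
      obtain ⟨k1, k2, k3, k4, k5, k6⟩ := H 5
      simp only [hr2, hqq', Pi.add_apply, Int.cast_add, add_mul, sum_add_distrib, evs, Int.cast_one,
        Int.cast_neg, one_mul, hdo, div_one, hbX, hcX, hc12, ← hCb] at k1 k2 k3 k4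
      simp at k4
      rw [pow_two (B z'), hz5, bz] at k4
      have hAC : B o + Cb = 0 := by
        have : B o + Cb + (B o + Cb) = 0 := by linear_combination k2 - bz
        linear_combination this / 2
      rw [hAC] at f4 k4
      exact h.hK (by linear_combination f4 - k4)
    · obtain ⟨z', q', hz', hq', hr2⟩ := hr2
      obtain ⟨k1, k2, k3, k4, k5, k6⟩ := H 5
      simp only [hr2, Pi.add_apply, Int.cast_add, add_mul, sum_add_distrib, evs, Int.cast_one,
        one_mul, hdo, div_one, hbY, hcY, hc12, ← hCb] at k1 k2 k3 k4 k5 k6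
      simp at k4 k5 k6
      have hq2' : (q' : ℂ) ^ 2 = 1 := by rcases hq' with rfl | rfl <;> norm_num
      have hq0' : (q' : ℂ) ≠ 0 := by rcases hq' with rfl | rfl <;> norm_num
      set x9 := -(q' : ℂ) * d z' with hx9
      have hx90 : x9 ≠ 0 := mul_ne_zero (neg_ne_zero.2 hq0') (hd0 z')
      have hz9 : ∀ u w : ℂ, (q' : ℂ) * (u * w / d z') = -((-(q' : ℂ) * u) * (-(q' : ℂ) * w) / x9) := by
        intro u w
        rw [hx9]
        field_simp [hd0 z']
      have bz' : -(q' : ℂ) * B z' = B o + Cb := by linear_combination -k2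
      have cz' : -(q' : ℂ) * C z' = C o - D' := by linear_combination -k3
      rw [pow_two (B z'), hz9, bz'] at k4
      rw [hz9, bz', cz'] at k5
      rw [pow_two (C z'), hz9, cz'] at k6
      have h3 : (d X : ℂ) = 3 := degree_three (A := B o) (C := Cb) (A' := C o) (D := D') (x2 := (d E2 : ℂ))
        (y := (d Y : ℂ)) (m := (d E12 : ℂ)) (x5 := x5) (x9 := x9) (hd0 _) (hd0 _) (hd0 _) (hd0 _) hx50 hx90
        (by linear_combination vd + hdXY) (by rw [hx5]; linear_combination -f1)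
        (by rw [hx9]; linear_combination -k1)
        h.hK h.hM h.hL hC0 hD'0
        (by linear_combination f4) (by linear_combination f5) (by linear_combination f6)
        (by linear_combination k4) (by linear_combination k5) (by linear_combination k6) e7 hMXY
      exact ⟨X, by rw [hwX, one_mul]; exact_mod_cast h3, Or.inl hwX⟩
  -- the cases
  have hR1 := rcases' 4 (-1) (Or.inl ⟨rfl, rfl⟩)
  have hR2 := rcases' 5 1 (Or.inr ⟨rfl, rfl⟩)
  have bad : ∀ k : Fin 6, ∀ Y : ι, ∀ e : ℤ, B Y = 0 →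
      c k = Pi.single o 1 + Pi.single E2 (-1) + Pi.single Y e + Pi.single E13 (-1) →
      B o = 2 * Cb ∧ B o ^ 2 - Cb ^ 2 / d E2 - Cb ^ 2 / d E12 = (![2, 0, 0, 0, 0, 1] : Fin 6 → ℂ) k * K := by
    intro k Y e hbY hk
    obtain ⟨-, k2, -, k4, -, -⟩ := H k
    simp only [hk, Pi.add_apply, Int.cast_add, Int.cast_neg, add_mul,
      sum_add_distrib, evs, Int.cast_one, one_mul, neg_one_mul, hdo, div_one, hbY, b13, vB,
      ← sub_eq_zero.1 bd, ← hCb] at k2 k4
    simp at k4
    exact ⟨by linear_combination k2, by linear_combination k4⟩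
  have no1 : ∀ Y : ι, B Y = 0 →
      c 4 = Pi.single o 1 + Pi.single E2 (-1) + Pi.single Y (-1) + Pi.single E13 (-1) → False := by
    intro Y hbY hk
    obtain ⟨e1, e2⟩ := bad 4 Y _ hbY hk
    refine no_sum_eq (k := 1) (n := 4) (h.dne E2) (h.dne E12) one_pos.le (by norm_num) ?_
    rw [e1] at e2
    simp at e2
    push_cast
    refine mul_left_cancel₀ (pow_ne_zero 2 hC0) ?_
    linear_combination e2
  have no2 : ∀ Y : ι, B Y = 0 →
      c 5 = Pi.single o 1 + Pi.single E2 (-1) + Pi.single Y 1 + Pi.single E13 (-1) → False := by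
    intro Y hbY hk
    obtain ⟨e1, e2⟩ := bad 5 Y _ hbY hk
    refine no_sum_eq (k := 3) (n := 8) (h.dne E2) (h.dne E12) (by norm_num) (by norm_num) ?_
    rw [e1] at e2
    simp at e2
    push_cast
    refine mul_left_cancel₀ (pow_ne_zero 2 hC0) ?_
    linear_combination 2 * e2 - e7
  have no3 : c 5 = Pi.single o 1 + Pi.single S (-1) + Pi.single T (-1) + Pi.single E13 (-1) → False := by
    intro hk
    obtain ⟨-, -, k3, -, -, k6⟩ := H 5
    simp only [hk, Pi.add_apply, Int.cast_add, Int.cast_neg, add_mul, sum_add_distrib, evs, Int.cast_one, one_mul, neg_one_mul,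
      hdo, div_one, hcS, cT, c13] at k3 k6
    have k3' : C o = 0 := by linear_combination k3
    rw [k3'] at k6
    simp at k6
    exact h.hM k6
  have w3 : c 1 E3 = 1 ∧ c 1 E4 = 1 := by
    rw [hw]; simp [Pi.single_apply, n34, n34.symm, nS3.symm, nS4.symm]
  rcases hR1 with ⟨-, -, -, -, -, -, h1⟩ | ⟨-, -, -, -, -, -, h1⟩ | h1 | h1 | ⟨h1, -⟩
  · exact (no1 E3 hb3 h1).elim
  · exact (no1 E4 hb4 h1).elim
  · refine key E4 E3 (-D) (fun z hz e => hz (by simp [e])) hb4 hb3 wC (by rw [neg_neg]) (neg_ne_zero.2 hD0)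
      (by linear_combination wd) (by linear_combination e8) w3.2 h1 ?_ (by simp) (by simp) n34.symm
    rcases hR2 with ⟨-, -, -, -, -, -, h2⟩ | ⟨-, -, -, -, -, -, h2⟩ | h2 | h2 | ⟨-, h2⟩
    · exact (no2 E3 hb3 h2).elim
    · exact (no2 E4 hb4 h2).elim
    · exact Or.inr h2
    · exact Or.inl h2
    · exact (no3 h2).elim
  · refine key E3 E4 D (fun z hz e => hz (by simp [e])) hb3 hb4 rfl wC hD0
      (by linear_combination wd) e8 w3.1 h1 ?_ (by simp) (by simp) n34
    rcases hR2 with ⟨-, -, -, -, -, -, h2⟩ | ⟨-, -, -, -, -, -, h2⟩ | h2 | h2 | ⟨-, h2⟩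
    · exact (no2 E3 hb3 h2).elim
    · exact (no2 E4 hb4 h2).elim
    · exact Or.inl h2
    · exact Or.inr h2
    · exact (no3 h2).elim
  · exact absurd h1 (by decide)


/-- The three constituents of a vector of norm three. -/
theorem split_three (v : ι → ℤ) {S : ι} (hn : ∑ i, v i * v i = 3) (hS : v S * v S = 1) :
    ∃ p q, S ≠ p ∧ S ≠ q ∧ p ≠ q ∧ v p * v p = 1 ∧ v q * v q = 1 ∧
      v = Pi.single S (v S) + Pi.single p (v p) + Pi.single q (v q) := by
  obtain ⟨p, hp, hvp⟩ : ∃ p, p ≠ S ∧ v p ≠ 0 := by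
    by_contra hne
    push Not at hne
    have : ∑ i, v i * v i = v S * v S :=
      sum_eq_single S (fun i _ hi => by rw [hne i hi, mul_zero]) (by simp)
    omega
  have hp3 : v p * v p = 1 := by
    have hb : v p * v p ≤ 3 := hn ▸ single_le_sum (f := fun i => v i * v i)
      (fun i _ => mul_self_nonneg (v i)) (mem_univ p)
    rcases small_coeff hb le_rfl with e | e | e
    · exact absurd e hvp
    · simp [e]
    · simp [e]
  obtain ⟨q, hq, hvq, -⟩ := rest_one v {S, p} (by rw [sum_pair (Ne.symm hp), hn, hS, hp3]; norm_num)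
  simp only [mem_insert, mem_singleton, not_or] at hq
  have hq3 : v q * v q = 1 := by rcases hvq with e | e <;> simp [e]
  exact ⟨p, q, Ne.symm hp, Ne.symm hq.1, Ne.symm hq.2, hp3, hq3,
    eq_three v (Ne.symm hp) (Ne.symm hq.1) (Ne.symm hq.2) hn hS hp3 hq3⟩

/-- Transporting a single along a change of signs. -/
theorem flip_single {ε : ι → ℤ} {p : ι} {e : ℤ} :
    (fun i => ε i * (Pi.single p e : ι → ℤ) i) = Pi.single p (ε p * e) := by
  funext i
  by_cases h : i = p
  · subst h; simp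
  · simp [h]

/-- The stage after the first two vectors have been brought to standard form. -/
theorem stage (h : Sys o d B C c K L M) {E2 S E12 E3 E4 : ι} (hnd : [o, E2, S, E12, E3, E4].Nodup)
    (hv : c 0 = Pi.single E2 1 + Pi.single S 1 - Pi.single E12 1)
    (hw : c 1 = Pi.single E3 1 + Pi.single E4 1 - Pi.single S 1) : Concl d c := by
  obtain ⟨⟨o2, oS, o12, o3, o4⟩, ⟨n2S, n212, n23, n24⟩, ⟨nS12, nS3, nS4⟩, ⟨n123, n124⟩, n34⟩ :
      (o ≠ E2 ∧ o ≠ S ∧ o ≠ E12 ∧ o ≠ E3 ∧ o ≠ E4) ∧ (E2 ≠ S ∧ E2 ≠ E12 ∧ E2 ≠ E3 ∧ E2 ≠ E4) ∧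
      (S ≠ E12 ∧ S ≠ E3 ∧ S ≠ E4) ∧ (E12 ≠ E3 ∧ E12 ≠ E4) ∧ E3 ≠ E4 := by
    simpa [and_assoc] using hnd
  have hd0 : ∀ i, (d i : ℂ) ≠ 0 := fun i => Int.cast_ne_zero.2 (h.dne i)
  -- subtracting multiples of the degrees
  set B' : ι → ℂ := fun i => B i - B S / d S * d i with hB'
  set C' : ι → ℂ := fun i => C i - C S / d S * d i with hC'
  have g : Sys o d B' C' c K L M := h.gauge _ _
  have dot : ∀ {R : Type} [CommRing R] (f : ι → R),
      ((∑ i, (c 0 i : R) * f i) = f E2 + f S - f E12) ∧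
      ((∑ i, (c 1 i : R) * f i) = f E3 + f E4 - f S) := by
    intro R _ f
    refine ⟨?_, ?_⟩ <;>
      simp [hv, hw, Pi.single_apply, add_mul, sub_mul, sum_add_distrib, sum_sub_distrib]
  have vd : (d E2 : ℂ) + d S - d E12 = 0 :=
    (dot fun i => (d i : ℂ)).1.symm.trans (by exact_mod_cast h.hd 0)
  have wd : (d E3 : ℂ) + d E4 - d S = 0 :=
    (dot fun i => (d i : ℂ)).2.symm.trans (by exact_mod_cast h.hd 1)
  have hbS : B' S = 0 := by simp only [hB']; field_simp [hd0 S]; ring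
  have hcS : C' S = 0 := by simp only [hC']; field_simp [hd0 S]; ring
  have wB := g.hB 1
  rw [(dot _).2, hbS, sub_zero] at wB
  have vC := g.hC 0
  rw [(dot _).1, hcS, add_zero, sub_eq_zero] at vC
  have wuu := g.Quu 1
  rw [(dot _).2, hbS] at wuu
  have vvv := g.Qvv 0
  rw [(dot _).1, hcS] at vvv
  simp at wuu vvv
  have h4 : B' E4 = -B' E3 := by linear_combination wB
  have hb3 : B' E3 = 0 := by
    rw [h4] at wuu
    field_simp [hd0 E3, hd0 E4] at wuu
    have : B' E3 ^ 2 * (d S : ℂ) = 0 := by linear_combination wuu - B' E3 ^ 2 * wd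
    exact pow_eq_zero_iff two_ne_zero |>.1 ((mul_eq_zero.1 this).resolve_right (hd0 S))
  have hb4 : B' E4 = 0 := by rw [h4, hb3, neg_zero]
  have hc2 : C' E2 = 0 := by
    rw [← vC] at vvv
    field_simp [hd0 E2, hd0 E12] at vvv
    have : C' E2 ^ 2 * (d S : ℂ) = 0 := by linear_combination vvv + C' E2 ^ 2 * vd
    exact pow_eq_zero_iff two_ne_zero |>.1 ((mul_eq_zero.1 this).resolve_right (hd0 S))
  have hc12 : C' E12 = 0 := by rw [← vC, hc2]
  have vB := g.hB 0
  rw [(dot _).1, hbS, add_zero, sub_eq_zero] at vB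
  have hCb : B' E12 ≠ 0 := by
    intro e
    have h0 := g.Quu 0
    rw [(dot _).1, hbS, vB, e] at h0
    simp at h0
    exact h.hK h0
  -- the vector of norm two
  set r := c 2 with hr
  have r0 : r E2 + r S - r E12 = 1 := by
    have := (dot r).1; simp only [Int.cast_id] at this
    rw [← this, h.G]; rfl
  have r1 : r E3 + r E4 - r S = -1 := by
    have := (dot r).2; simp only [Int.cast_id] at this
    rw [← this, h.G]; rfl
  have hro : r o = 0 := by rw [hr, h.c_o]; rfl
  have hn : ∑ i, r i * r i = 2 := by rw [hr, h.G]; rfl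
  set s : Finset ι := {o, E2, S, E12, E3, E4} with hs
  have hsum : ∀ f : ι → ℤ, ∑ i ∈ s, f i = f o + f E2 + f S + f E12 + f E3 + f E4 := by
    intro f
    rw [hs, sum_insert (by simp [o2, oS, o12, o3, o4]), sum_insert (by simp [n2S, n212, n23, n24]),
      sum_insert (by simp [nS12, nS3, nS4]), sum_insert (by simp [n123, n124]), sum_pair n34]
    ring
  have hle : ∀ f : ι → ℤ, ∑ i ∈ s, f i * f i ≤ ∑ i, f i * f i := fun f =>
    sum_le_univ_sum_of_nonneg fun i => mul_self_nonneg (f i)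
  have hmem : ∀ x, x * x ≤ 2 → x ∈ ({0, 1, -1} : Finset ℤ) := fun x hx =>
    mem_three (small_coeff hx (by norm_num))
  have hr2 := hle r
  rw [hsum, hro, hn] at hr2
  have q1 := mul_self_nonneg (r E2)
  have q2 := mul_self_nonneg (r S)
  have q3 := mul_self_nonneg (r E12)
  have q4 := mul_self_nonneg (r E3)
  have q5 := mul_self_nonneg (r E4)
  rcases enum_a (r E2) (hmem _ (by linarith)) (r S) (hmem _ (by linarith)) (r E12) (hmem _ (by linarith))
      (r E3) (hmem _ (by linarith)) (r E4) (hmem _ (by linarith)) r0 r1 (by linarith) with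
    ⟨a1, a2, a3, a4, a5⟩ | ⟨hpm, hfull⟩
  swap
  · exfalso
    have hz := rest_zero r s (by rw [hsum, hn, hro]; linarith)
    have hb := g.hB 2
    rw [← sum_subset (subset_univ s) fun i _ hi => by rw [← hr, hz i hi, Int.cast_zero, zero_mul],
      hs, sum_insert (by simp [o2, oS, o12, o3, o4]), sum_insert (by simp [n2S, n212, n23, n24]),
      sum_insert (by simp [nS12, nS3, nS4]), sum_insert (by simp [n123, n124]), sum_pair n34,
      ← hr, hro, hbS, hb3, hb4, vB] at hb
    simp at hb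
    have hb' : ((r E2 + r E12 : ℤ) : ℂ) * B' E12 = 0 := by push_cast; linear_combination hb
    rcases hpm with e | e <;> rw [e] at hb' <;> simp at hb' <;> exact hCb hb'
  obtain ⟨T, hT, hrT, -⟩ := rest_one r s (by rw [hsum, hn, hro, a1, a2, a3, a4, a5]; norm_num)
  simp only [hs, mem_insert, mem_singleton, not_or] at hT
  obtain ⟨To, T2, TS, T12, T3, T4⟩ := hT
  have hra : r = Pi.single S 1 + Pi.single T (r T) := by
    conv_lhs => rw [eq_two r (Ne.symm TS) hn (by rw [a2]; rfl) (by rcases hrT with e | e <;> simp [e]), a2]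
  -- the second vector of norm two
  set t := c 3 with ht
  have t0 : t E2 + t S - t E12 = -1 := by
    have := (dot t).1; simp only [Int.cast_id] at this
    rw [← this, h.G]; rfl
  have t1 : t E3 + t E4 - t S = 0 := by
    have := (dot t).2; simp only [Int.cast_id] at this
    rw [← this, h.G]; rfl
  have t2 : t S + r T * t T = 0 := by
    have : ∑ i, r i * t i = 0 := by rw [hr, ht, h.G]; rfl
    rw [hra] at this
    simpa [Pi.single_apply, add_mul, sum_add_distrib] using this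
  have htT : t T * t T = t S * t S := by
    have : r T * r T = 1 := by rcases hrT with e | e <;> simp [e]
    linear_combination (r T * t T - t S) * t2 - t T * t T * this
  have hto : t o = 0 := by rw [ht, h.c_o]; rfl
  have htn : ∑ i, t i * t i = 2 := by rw [ht, h.G]; rfl
  have hsumT : ∀ f : ι → ℤ, ∑ i ∈ insert T s, f i = f T + (f o + f E2 + f S + f E12 + f E3 + f E4) :=
    fun f => by rw [sum_insert (by simp [hs, To, T2, TS, T12, T3, T4]), hsum]
  have htle : ∑ i ∈ insert T s, t i * t i ≤ 2 :=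
    htn ▸ sum_le_univ_sum_of_nonneg fun i => mul_self_nonneg (t i)
  rw [hsumT, hto, htT] at htle
  have p1 := mul_self_nonneg (t E2)
  have p2 := mul_self_nonneg (t S)
  have p3 := mul_self_nonneg (t E12)
  have p4 := mul_self_nonneg (t E3)
  have p5 := mul_self_nonneg (t E4)
  have hcase := enum_b (t E2) (hmem _ (by linarith)) (t S) (hmem _ (by linarith)) (t E12)
      (hmem _ (by linarith)) (t E3) (hmem _ (by linarith)) (t E4) (hmem _ (by linarith)) t0 t1 (by linarith)
  obtain ⟨hone, hS0⟩ : t E2 * t E2 + t E12 * t E12 = 1 ∧ t S = 0 ∧ t E3 = 0 ∧ t E4 = 0 := by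
    rcases hcase with ⟨b1, b2, b3, b4, b5⟩ | ⟨b1, b2, b3, b4, b5⟩ <;> simp [b1, b2, b3, b4, b5]
  obtain ⟨z, hz, htz, -⟩ := rest_one t (insert T s)
    (by rw [hsumT, htn, hto, htT, hS0.1, hS0.2.1, hS0.2.2]; linarith)
  simp only [hs, mem_insert, mem_singleton, not_or] at hz
  obtain ⟨zT, zo, z2, zS, z12, z3, z4⟩ := hz
  have hzz : t z * t z = 1 := by rcases htz with e | e <;> simp [e]
  set ε : ι → ℤ := fun i => if i = T then -r T else if i = z then -t z else
    if i = E2 ∨ i = E12 then (if t E12 = 1 then 1 else -1) else 1 with hε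
  have hεpm : ∀ i, ε i = 1 ∨ ε i = -1 := by
    intro i
    simp only [hε]
    split_ifs
    · rcases hrT with e | e <;> simp [e]
    · rcases htz with e | e <;> simp [e]
    all_goals simp
  refine Concl.of_flip hεpm ?_
  have g' := g.flip ε hεpm (by simp [hε, Ne.symm To, Ne.symm zo, o2, o12])
  have eS : ε S = 1 := by simp [hε, Ne.symm TS, Ne.symm zS, n2S.symm, nS12]
  have e3 : ε E3 = 1 := by simp [hε, Ne.symm T3, Ne.symm z3, n23.symm, n123.symm]
  have e4 : ε E4 = 1 := by simp [hε, Ne.symm T4, Ne.symm z4, n24.symm, n124.symm]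
  have eT : ε T = -r T := by simp [hε]
  have ez : ε z = -t z := by simp [hε, zT]
  have hrT1 : r T * r T = 1 := by rcases hrT with e | e <;> simp [e]
  rcases hcase with ⟨b1, b2, b3, b4, b5⟩ | ⟨b1, b2, b3, b4, b5⟩
  · have e2 : ε E2 = 1 := by simp [hε, Ne.symm T2, Ne.symm z2, b3]
    have e12 : ε E12 = 1 := by simp [hε, Ne.symm T12, Ne.symm z12, b3]
    refine finish g' (E2 := E2) (S := S) (E12 := E12) (E3 := E3) (E4 := E4) (T := T) (E13 := z)
      ⟨?_, ?_, ?_, ?_, ?_, ?_, ?_, ?_, ?_, ?_, ?_⟩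
    · simp [o2, oS, o12, o3, o4, Ne.symm To, Ne.symm zo, n2S, n212, n23, n24, Ne.symm T2, Ne.symm z2,
        nS12, nS3, nS4, Ne.symm TS, Ne.symm zS, n123, n124, Ne.symm T12, Ne.symm z12, n34, Ne.symm T3,
        Ne.symm z3, Ne.symm T4, Ne.symm z4, Ne.symm zT]
    · funext i
      show ε i * c 0 i = _
      simp only [hv, Pi.add_apply, Pi.sub_apply, mul_add, mul_sub, congrFun (flip_single (ε := ε)) i,
        e2, eS, e12, mul_one]
    · funext i
      show ε i * c 1 i = _
      simp only [hw, Pi.add_apply, Pi.sub_apply, mul_add, mul_sub, congrFun (flip_single (ε := ε)) i,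
        eS, e3, e4, mul_one]
    · funext i
      show ε i * r i = _
      conv_lhs => rw [congrFun hra i]
      simp only [Pi.add_apply, Pi.sub_apply, mul_add, congrFun (flip_single (ε := ε)) i, eS, eT, mul_one]
      rw [neg_mul, hrT1, Pi.single_neg, Pi.neg_apply]
      ring
    · funext i
      show ε i * t i = _
      conv_lhs => rw [congrFun (eq_two t (Ne.symm z12) htn (by rw [b3]; rfl) hzz) i, b3]
      simp only [Pi.add_apply, Pi.sub_apply, mul_add, congrFun (flip_single (ε := ε)) i, e12, ez, mul_one]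
      rw [neg_mul, hzz, Pi.single_neg, Pi.neg_apply]
      ring
    · simp [hbS]
    · simp [hb3]
    · simp [hb4]
    · simp [hcS]
    · simp [hc2]
    · simp [hc12]
  · have e2 : ε E2 = -1 := by simp [hε, Ne.symm T2, Ne.symm z2, b3]
    have e12 : ε E12 = -1 := by simp [hε, Ne.symm T12, Ne.symm z12, b3]
    refine finish g' (E2 := E12) (S := S) (E12 := E2) (E3 := E3) (E4 := E4) (T := T) (E13 := z)
      ⟨?_, ?_, ?_, ?_, ?_, ?_, ?_, ?_, ?_, ?_, ?_⟩
    · simp [o2, oS, o12, o3, o4, Ne.symm To, Ne.symm zo, n2S, n212, n23, n24, Ne.symm T2, Ne.symm z2,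
        nS12, nS3, nS4, Ne.symm TS, Ne.symm zS, n123, n124, Ne.symm T12, Ne.symm z12, n34, Ne.symm T3,
        Ne.symm z3, Ne.symm T4, Ne.symm z4, Ne.symm zT, n2S.symm, n212.symm, nS12.symm]
    · funext i
      show ε i * c 0 i = _
      simp only [hv, Pi.add_apply, Pi.sub_apply, mul_add, mul_sub, congrFun (flip_single (ε := ε)) i,
        e2, eS, e12, mul_one]
      rw [Pi.single_neg, Pi.single_neg]
      simp only [Pi.neg_apply]
      ring
    · funext i
      show ε i * c 1 i = _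
      simp only [hw, Pi.add_apply, Pi.sub_apply, mul_add, mul_sub, congrFun (flip_single (ε := ε)) i,
        eS, e3, e4, mul_one]
    · funext i
      show ε i * r i = _
      conv_lhs => rw [congrFun hra i]
      simp only [Pi.add_apply, Pi.sub_apply, mul_add, congrFun (flip_single (ε := ε)) i, eS, eT, mul_one]
      rw [neg_mul, hrT1, Pi.single_neg, Pi.neg_apply]
      ring
    · funext i
      show ε i * t i = _
      conv_lhs => rw [congrFun (eq_two t (Ne.symm z2) htn (by rw [b1]; rfl) hzz) i, b1]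
      simp only [Pi.add_apply, Pi.sub_apply, mul_add, congrFun (flip_single (ε := ε)) i, e2, ez]
      rw [show -t z * t z = -1 by rw [neg_mul, hzz], show (-1 : ℤ) * -1 = 1 by norm_num,
        Pi.single_neg (i := z), Pi.neg_apply]
      ring
    · simp [hbS]
    · simp [hb3]
    · simp [hb4]
    · simp [hcS]
    · simp [hc12]
    · simp [hc2]

/-- The conclusion. -/
theorem Sys.concl (h : Sys o d B C c K L M) : Concl d c := by
  obtain ⟨S, hS⟩ : ∃ S, c 0 S * c 1 S < 0 := by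
    by_contra hne
    push Not at hne
    have h1 := sum_nonneg fun i (_ : i ∈ univ) => hne i
    rw [h.G 0 1] at h1
    exact absurd h1 (by decide)
  have hle : ∀ a i, c a i * c a i ≤ gramP a a := fun a i => h.G a a ▸
    single_le_sum (f := fun i => c a i * c a i) (fun i _ => mul_self_nonneg (c a i)) (mem_univ i)
  have hval : ∀ a : Fin 6, a = 0 ∨ a = 1 → ∀ i, c a i = 0 ∨ c a i = 1 ∨ c a i = -1 := fun a ha i =>
    small_coeff (hle a i) (by rcases ha with rfl | rfl <;> decide)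
  have hS0 : c 0 S * c 0 S = 1 ∧ c 1 S = -c 0 S := by
    rcases hval 0 (Or.inl rfl) S with e | e | e <;> rcases hval 1 (Or.inr rfl) S with e' | e' | e' <;>
      rw [e, e'] at hS <;> first | omega | (simp [e, e'])
  obtain ⟨p, q, hSp, hSq, hpq, hp, hq, hv⟩ := split_three (c 0) (h.G 0 0) hS0.1
  obtain ⟨x, y, hSx, hSy, hxy, hx, hy, hw⟩ :=
    split_three (c 1) (S := S) (h.G 1 1) (by rw [hS0.2, neg_mul_neg, hS0.1])
  have hvw : c 0 p * c 1 p + c 0 q * c 1 q = 0 := by
    have h01 := h.G 0 1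
    have : ∑ i, c 0 i * c 1 i = c 0 S * c 1 S + c 0 p * c 1 p + c 0 q * c 1 q := by
      conv_lhs => rw [hv]
      simp [Pi.single_apply, add_mul, sum_add_distrib]
    rw [this, hS0.2, mul_neg, hS0.1] at h01
    have : gramP 0 1 = -1 := rfl
    linarith
  have hp1 : c 1 p = 0 ∧ c 1 q = 0 := by
    have hp0 : c 0 p ≠ 0 := fun e => by simp [e] at hp
    have hq0 : c 0 q ≠ 0 := fun e => by simp [e] at hq
    by_cases hcp : c 1 p = 0
    · refine ⟨hcp, ?_⟩
      rw [hcp, mul_zero, zero_add, mul_eq_zero] at hvw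
      exact hvw.resolve_left hq0
    exfalso
    have hcq : c 1 q ≠ 0 := fun e => by
      rw [e, mul_zero, add_zero, mul_eq_zero] at hvw
      exact hvw.elim hp0 hcp
    have hp' : c 1 p * c 1 p = 1 := by
      rcases hval 1 (Or.inr rfl) p with e | e | e <;> simp [e] at hcp ⊢
    have hq' : c 1 q * c 1 q = 1 := by
      rcases hval 1 (Or.inr rfl) q with e | e | e <;> simp [e] at hcq ⊢
    have hw' := eq_three (c 1) hSp hSq hpq (h.G 1 1) (by rw [hS0.2, neg_mul_neg, hS0.1]) hp' hq'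
    have d0 := h.hd 0
    have d1 := h.hd 1
    rw [hv] at d0
    rw [hw'] at d1
    simp [Pi.single_apply, add_mul, sum_add_distrib, hS0.2] at d0 d1
    have hdp := h.dne p
    have hdq := h.dne q
    rcases hval 0 (Or.inl rfl) p with a | a | a <;> rcases hval 0 (Or.inl rfl) q with b | b | b <;>
      rcases hval 1 (Or.inr rfl) p with a' | a' | a' <;> rcases hval 1 (Or.inr rfl) q with b' | b' | b' <;>
      simp [a, b, a', b'] at hvw hp hq hcp hcq d0 d1 <;> omega
  have hx0 : c 1 x ≠ 0 := fun e => by simp [e] at hx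
  have hy0 : c 1 y ≠ 0 := fun e => by simp [e] at hy
  have hpx : p ≠ x := fun e => hx0 (e ▸ hp1.1)
  have hpy : p ≠ y := fun e => hy0 (e ▸ hp1.1)
  have hqx : q ≠ x := fun e => hx0 (e ▸ hp1.2)
  have hqy : q ≠ y := fun e => hy0 (e ▸ hp1.2)
  have ho : ∀ i, (c 0 i * c 0 i = 1 ∨ c 1 i * c 1 i = 1) → o ≠ i := by
    rintro i (hi | hi) rfl <;> rw [h.c_o] at hi <;> exact absurd hi (by decide)
  set ε : ι → ℤ := fun i => if i = q then -c 0 q else if i = p then c 0 p else if i = S then c 0 S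
    else if i = x then c 1 x else if i = y then c 1 y else 1 with hε
  have hεpm : ∀ i, ε i = 1 ∨ ε i = -1 := by
    intro i
    simp only [hε]
    split_ifs
    · rcases mul_self_eq_one_iff.1 hq with e | e <;> simp [e]
    · exact mul_self_eq_one_iff.1 hp
    · exact mul_self_eq_one_iff.1 hS0.1
    · exact mul_self_eq_one_iff.1 hx
    · exact mul_self_eq_one_iff.1 hy
    · exact Or.inl rfl
  refine Concl.of_flip hεpm ?_
  have oS := ho S (Or.inl hS0.1)
  have op := ho p (Or.inl hp)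
  have oq := ho q (Or.inl hq)
  have ox := ho x (Or.inr hx)
  have oy := ho y (Or.inr hy)
  have g := h.flip ε hεpm (by simp [hε, oS, op, oq, ox, oy])
  refine stage g (E2 := p) (S := S) (E12 := q) (E3 := x) (E4 := y) ?_ ?_ ?_
  · simp [oS, op, oq, ox, oy, hSp.symm, hpq, hpx, hpy, hSq, hSx, hSy, hqx, hqy, hxy]
  · funext i
    have eq' : ε q * c 0 q = -1 := by simp [hε, hq]
    have ep : ε p * c 0 p = 1 := by simp [hε, hpq, hp]
    have eS : ε S * c 0 S = 1 := by simp [hε, hSq, hSp, hS0.1]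
    show ε i * c 0 i = _
    conv_lhs => rw [hv]
    simp only [Pi.add_apply, Pi.sub_apply, mul_add, congrFun (flip_single (ε := ε)) i, eq', ep, eS]
    rw [Pi.single_neg, Pi.neg_apply]
    ring
  · funext i
    have ex : ε x * c 1 x = 1 := by simp [hε, hqx.symm, hpx.symm, hSx.symm, hx]
    have ey : ε y * c 1 y = 1 := by simp [hε, hqy.symm, hpy.symm, hSy.symm, hxy.symm, hy]
    have eS : ε S * c 1 S = -1 := by rw [hS0.2]; simp [hε, hSq, hSp, hS0.1]
    show ε i * c 1 i = _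
    conv_lhs => rw [hw]
    simp only [Pi.add_apply, Pi.sub_apply, mul_add, congrFun (flip_single (ε := ε)) i, ex, ey, eS]
    rw [Pi.single_neg, Pi.neg_apply]
    ring

end CfsgLib.Recog.ThreeCubeSFour
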