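import Cfsg.Agent.Lib.Recog.ThreeCubeSFour.Chars

/-!
# Six generalized characters supported on the `3`-singular classes, and class facts
-/

set_option autoImplicit false
set_option linter.all false
set_option maxRecDepth 100000

open DihedralGroup CfsgLib.Char CfsgLib.Char.Exceptional

namespace CfsgLib.Recog.ThreeCubeSFour

/-- Rational parts of the six vectors. -/
def VA : Fin 6 → Fin 14 → ℤ :=
  ![![0, 0, 0, 9, 0, 0, 0, 0, 3, 0, 0, -3, 0, 0], ![0, 0, 0, 3, 9, 6, 0, 0, -3, 0, 0, 0, 0, 0],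
    ![0, 0, 0, 0, 0, 0, 0, 0, 0, 0, 0, 0, 0, 0], ![0, 0, 0, 0, 0, 0, 0, 0, 0, 0, -3, 3, 0, 0],
    ![0, 0, 0, -9, 0, 0, 0, 0, 3, 0, 0, 3, 3, 3], ![0, 0, 0, 0, 0, 9, 0, 0, 0, 3, 0, 3, 0, 0]]

/-- Irrational parts of the six vectors. -/
def VB : Fin 6 → Fin 14 → ℤ :=
  ![![0, 0, 0, 0, 0, 0, 0, 0, 0, 0, 0, 0, -1, 1], ![0, 0, 0, 0, 0, 0, 0, 0, 0, 0, 0, 0, 1, -1],
    ![0, 0, 0, 0, 0, 0, 0, 0, 0, 0, 0, 0, -2, 2], fun _ => 0, fun _ => 0, fun _ => 0]

/-- The six functions. -/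
noncomputable def phiV (a : Fin 6) (m : M) : ℂ :=
  ((VA a (cls m) : ℤ) : ℂ) + ((VB a (cls m) : ℤ) : ℂ) * (Real.sqrt 3 : ℂ)

/-- Their inner products. -/
def gram : Fin 6 → Fin 6 → ℤ :=
  ![![3, -1, 1, -1, -1, -1], ![-1, 3, -1, 0, -1, 1], ![1, -1, 2, 0, 0, 0],
    ![-1, 0, 0, 2, 1, 1], ![-1, -1, 0, 1, 4, 1], ![-1, 1, 0, 1, 1, 4]]

/-- Their inner products with the trivial character. -/
def triv : Fin 6 → ℤ := ![0, 0, 0, 0, 1, 1]

theorem V_gram : ∀ a b, (∑ k, (csz k : ℤ) * (VA a k * VA b k + 3 * (VB a k * VB b k))) = 648 * gram a b ∧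
    ∑ k, (csz k : ℤ) * (VA a k * VB b k + VB a k * VA b k) = 0 := by
  decide +kernel

theorem V_triv : ∀ a, (∑ k, (csz k : ℤ) * VA a k) = 648 * triv a ∧ ∑ k, (csz k : ℤ) * VB a k = 0 := by
  decide +kernel

theorem V_supp : ∀ a k, (k = 0 ∨ k = 1 ∨ k = 2 ∨ k = 6 ∨ k = 7) → VA a k = 0 ∧ VB a k = 0 := by
  decide +kernel

/-- The two classes of involutions. -/
def invK : Fin 2 → Finset M :=
  ![Finset.univ.filter fun m => cls m = 1, Finset.univ.filter fun m => cls m = 2]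

/-- The pair sums. -/
def pairT : Fin 6 → Fin 2 → Fin 2 → ℤ :=
  ![![![1944, 0], ![0, 0]], ![![0, 0], ![0, 1944]], ![![0, 0], ![0, 0]], ![![0, 0], ![0, 0]],
    ![![0, 1944], ![1944, 1944]], ![![972, 972], ![972, 2916]]]

theorem V_pairs : ∀ l n a, ∑ i ∈ invK l, ∑ j ∈ invK n, VA a (cls (i * j)) = pairT a l n := by
  decide +kernel

theorem VB_pairs : ∀ l n, ∑ i ∈ invK l, ∑ j ∈ invK n, VB 0 (cls (i * j)) = 0 := by
  decide +kernel

theorem VB_eq : ∀ a k, VB a k = (![1, -1, 2, 0, 0, 0] : Fin 6 → ℤ) a * VB 0 k := by decide +kernel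

theorem isGen_phiV : ∀ a, Cfsg.IsGeneralizedCharacter M (phiV a) := by
  intro a
  fin_cases a
  · convert IsGen.sub (IsGen.add isGen_2 isGen_6) isGen_12 using 1
    funext m
    have h : ∀ k, VA 0 k = A2 k + A6 k - A12 k ∧ VB 0 k = B6 k := by decide +kernel
    simp only [phiV, Fin.mk_zero, Fin.reduceFinMk, (h _).1, (h _).2, Pi.add_apply, Pi.sub_apply,
      Int.cast_add, Int.cast_sub]
    ring
  · convert IsGen.sub (IsGen.add isGen_3 isGen_4) isGen_6 using 1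
    funext m
    have h : ∀ k, VA 1 k = A3 k + A4 k - A6 k ∧ VB 1 k = -B6 k := by decide +kernel
    simp only [phiV, Fin.mk_one, Fin.reduceFinMk, (h _).1, (h _).2, Pi.add_apply, Pi.sub_apply,
      Int.cast_add, Int.cast_sub, Int.cast_neg]
    ring
  · convert IsGen.sub isGen_6 isGen_8 using 1
    funext m
    have h : ∀ k, VA 2 k = A6 k - A8 k ∧ VB 2 k = B6 k - B8 k := by decide +kernel
    simp only [phiV, Fin.reduceFinMk, (h _).1, (h _).2, Pi.sub_apply, Int.cast_sub]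
    ring
  · convert IsGen.sub isGen_12 isGen_13 using 1
    funext m
    have h : ∀ k, VA 3 k = A12 k - A13 k ∧ VB 3 k = 0 := by decide +kernel
    simp only [phiV, Fin.reduceFinMk, (h _).1, (h _).2, Pi.sub_apply, Int.cast_sub, Int.cast_zero]
    ring
  · convert IsGen.add (IsGen.sub (IsGen.sub isGen_one isGen_4) isGen_5) isGen_12 using 1
    funext m
    have h : ∀ k, VA 4 k = 1 - A4 k - A5 k + A12 k ∧ VB 4 k = 0 := by decide +kernel
    simp only [phiV, Fin.reduceFinMk, (h _).1, (h _).2, Pi.add_apply, Pi.sub_apply, Int.cast_add,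
      Int.cast_sub, Int.cast_one, Int.cast_zero]
    ring
  · convert IsGen.add (IsGen.sub (IsGen.add isGen_one isGen_4) isGen_9) isGen_12 using 1
    funext m
    have h : ∀ k, VA 5 k = 1 + A4 k - A9 k + A12 k ∧ VB 5 k = 0 := by decide +kernel
    simp only [phiV, Fin.reduceFinMk, (h _).1, (h _).2, Pi.add_apply, Pi.sub_apply, Int.cast_add,
      Int.cast_sub, Int.cast_one, Int.cast_zero]
    ring

end CfsgLib.Recog.ThreeCubeSFour
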