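import Cfsg.Agent.Lib.Recog.ThreeCubeSFour.Local
import Cfsg.Agent.Lib.Recog.ThreeCubeSFour.Vectors
import Cfsg.Agent.Lib.Recog.ThreeCubeSFour.Pattern
import Cfsg.Agent.Lib.Char.Exceptional.D8Centralizer

/-!
# An exceptional character of degree three
-/

open scoped Classical

set_option autoImplicit false
set_option linter.all false
set_option maxHeartbeats 1000000

namespace CfsgLib.Recog.ThreeCubeSFour

open CfsgLib.Char CfsgLib.Char.Exceptional Subgroup

variable {G : Type*} [Group G]

/-- The pair sum of an irreducible character over two classes. -/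
theorem class_pair_sum2 [Fintype G] (θ : Cfsg.IrrCharacter G) {d : ℕ} (hd : (θ : G → ℂ) 1 = d) (s t : G) :
    ∑ a ∈ CharIntegral.classFinset s, ∑ b ∈ CharIntegral.classFinset t, (θ : G → ℂ) (a * b) =
      ((centralizer ({s} : Set G)).index : ℂ) * ((centralizer ({t} : Set G)).index : ℂ) *
        ((θ : G → ℂ) s * (θ : G → ℂ) t) / d := by
  obtain ⟨k, ρ, hρ, he⟩ := θ.2
  haveI := hρ
  rw [← he, Representation.char_one, Nat.cast_inj] at hd
  rw [← he]
  simp only [Representation.character, map_mul]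
  rw [Finset.sum_congr rfl fun a _ => (map_sum (LinearMap.trace ℂ _) (fun b => ρ a * ρ b) _).symm,
    ← map_sum]
  simp only [← Finset.mul_sum]
  rw [← Finset.sum_mul, CharIntegral.classSum_eq_scalar ρ s, CharIntegral.classSum_eq_scalar ρ t, hd]
  have h0 : (d : ℂ) ≠ 0 := by rw [← hd]; exact CharIntegral.finrank_cast_ne_zero ρ
  simp only [Module.End.mul_eq_comp, LinearMap.comp_smul, LinearMap.smul_comp, LinearMap.comp_id, smul_smul,
    map_smul, LinearMap.trace_id, hd, smul_eq_mul, Representation.character]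
  field_simp

theorem conj_phiV (a : Fin 6) (m : M) : (starRingEnd ℂ) (phiV a m) = phiV a m := by
  simp only [phiV, map_add, map_mul, Complex.conj_ofReal, map_intCast]

theorem sum_phiV_mul (a b : Fin 6) : ∑ m : M, phiV a m * phiV b m = ((648 * gram a b : ℤ) : ℂ) := by
  obtain ⟨h1, h2⟩ := V_gram a b
  have h3 : (Real.sqrt 3 : ℂ) ^ 2 = 3 := by
    rw [← Complex.ofReal_pow, Real.sq_sqrt (by norm_num)]; norm_num
  rw [show (∑ m : M, phiV a m * phiV b m) =
      ∑ m : M, (((VA a (cls m) * VA b (cls m) + 3 * (VB a (cls m) * VB b (cls m)) : ℤ) : ℂ) +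
        ((VA a (cls m) * VB b (cls m) + VB a (cls m) * VA b (cls m) : ℤ) : ℂ) * (Real.sqrt 3 : ℂ)) from
    Finset.sum_congr rfl fun m _ => by
      simp only [phiV]
      push_cast
      linear_combination ((VB a (cls m) : ℂ) * (VB b (cls m) : ℂ)) * h3]
  rw [Finset.sum_add_distrib, ← Finset.sum_mul, ← Int.cast_sum, ← Int.cast_sum,
    sum_cls (fun k => VA a k * VA b k + 3 * (VB a k * VB b k)),
    sum_cls (fun k => VA a k * VB b k + VB a k * VA b k)]
  simp only [nsmul_eq_mul]
  rw [h1, h2, Int.cast_zero, zero_mul, add_zero]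

theorem sum_phiV (a : Fin 6) : ∑ m : M, phiV a m = ((648 * triv a : ℤ) : ℂ) := by
  obtain ⟨h1, h2⟩ := V_triv a
  simp only [phiV]
  rw [Finset.sum_add_distrib, ← Finset.sum_mul, ← Int.cast_sum, ← Int.cast_sum, sum_cls (VA a),
    sum_cls (VB a)]
  simp only [nsmul_eq_mul]
  rw [h1, h2, Int.cast_zero, zero_mul, add_zero]

theorem phiV_supp (a : Fin 6) (m : M) (h : rc (cls m) = false) : phiV a m = 0 := by
  obtain ⟨h1, h2⟩ := V_supp a _ (rr_cls _ h)
  simp [phiV, h1, h2]

theorem phiV_pairs (a : Fin 6) (l n : Fin 2) :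
    ∑ i ∈ invK l, ∑ j ∈ invK n, phiV a (i * j) = ((pairT a l n : ℤ) : ℂ) := by
  simp only [phiV, Finset.sum_add_distrib, ← Finset.sum_mul, ← Int.cast_sum]
  rw [V_pairs l n a, show (∑ i ∈ invK l, ∑ j ∈ invK n, VB a (cls (i * j))) =
      (![1, -1, 2, 0, 0, 0] : Fin 6 → ℤ) a * ∑ i ∈ invK l, ∑ j ∈ invK n, VB 0 (cls (i * j)) by
    simp only [VB_eq a, Finset.mul_sum], VB_pairs, mul_zero, Int.cast_zero, zero_mul, add_zero]

variable [Finite G]

/-- There is an irreducible character of degree three containing the second vector once. -/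
theorem exists_degree_three (f : M →* G) (h : Hyp f) :
    ∃ θ : Cfsg.IrrCharacter G, (θ : G → ℂ) 1 = 3 ∧
      Cfsg.classInner (fun m : M => (θ : G → ℂ) (f m)) (phiV 1) = 1 := by
  haveI := Fintype.ofFinite G
  set H := f.range with hH
  let e : M ≃* H := MonoidHom.ofInjective h.inj
  haveI := Fintype.ofFinite H
  set S : Set G := {x : G | ∃ m, f m = x ∧ rc (cls m) = true} with hS
  have hTI : ∀ g : G, g ∉ H → ∀ s ∈ S, g * s * g⁻¹ ∉ S := h.ti
  have hSH : S ⊆ H := by rintro _ ⟨m, rfl, -⟩; exact ⟨m, rfl⟩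
  have hSinv : ∀ s ∈ S, s⁻¹ ∈ S := by
    rintro _ ⟨m, rfl, hm⟩
    exact ⟨m⁻¹, map_inv f m, rr_inv m hm⟩
  let φ : Fin 6 → H → ℂ := fun a x => phiV a (e.symm x)
  have hgen : ∀ a, Cfsg.IsGeneralizedCharacter H (φ a) := fun a =>
    IsGen.comp e.symm.toMonoidHom (isGen_phiV a)
  have he : ∀ x : H, f (e.symm x) = x := fun x => by
    conv_rhs => rw [← e.apply_symm_apply x]
    rfl
  have hsum : ∀ F : M → ℂ, ∑ x : H, F (e.symm x) = ∑ m : M, F m := fun F =>
    Fintype.sum_equiv e.symm.toEquiv _ _ fun _ => rfl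
  have hsupp : ∀ a (x : H), (x : G) ∉ S → φ a x = 0 := fun a x hx => by
    refine phiV_supp a _ ?_
    cases hb : rc (cls (e.symm x))
    · rfl
    · exact absurd ⟨_, he x, hb⟩ hx
  have hcardH : (Nat.card H : ℂ) = 648 := by
    rw [← Nat.card_congr e.toEquiv, card_M]; norm_num
  have hinner : ∀ a b, Cfsg.classInner (φ a) (φ b) = (gram a b : ℂ) := fun a b => by
    rw [Cfsg.classInner, hcardH, show (∑ x : H, φ a x * (starRingEnd ℂ) (φ b x)) =
      ∑ m : M, phiV a m * phiV b m from (Finset.sum_congr rfl fun x _ => by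
        show _ = phiV a (e.symm x) * phiV b (e.symm x)
        rw [conj_phiV]).trans (hsum fun m => phiV a m * phiV b m), sum_phiV_mul]
    push_cast
    ring
  have hone : ∀ a, Cfsg.classInner (Cfsg.indFun H (φ a)) (fun _ => 1) = (triv a : ℂ) := fun a => by
    rw [frobenius_reciprocity H (φ a) (fun _ _ => rfl), Cfsg.classInner, hcardH,
      show (∑ x : H, φ a x * (starRingEnd ℂ) 1) = ∑ m : M, phiV a m from
        (Finset.sum_congr rfl fun x _ => by
          show _ = phiV a (e.symm x)
          rw [map_one, mul_one]).trans (hsum (phiV a)), sum_phiV]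
    push_cast
    ring
  letI := Fintype.ofFinite (Cfsg.IrrCharacter G)
  choose c hc using fun a => IsGen.exists_sum (IsGen.indFun H (hgen a))
  have hdot : ∀ a b : Cfsg.IrrCharacter G → ℤ,
      Cfsg.classInner (∑ θ, (a θ : ℂ) • (θ : G → ℂ)) (∑ θ, (b θ : ℂ) • (θ : G → ℂ)) =
        ((∑ θ, a θ * b θ : ℤ) : ℂ) := fun a b => by
    rw [classInner_sum_right]
    simp only [classInner_smul_right, classInner_sum_irr, map_intCast, Int.cast_sum, Int.cast_mul]
    exact Finset.sum_congr rfl fun θ _ => mul_comm _ _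
  have hG : ∀ a b, ∑ θ, c a θ * c b θ = gramP a b := fun a b => by
    have h' := hdot (c a) (c b)
    rw [← hc, ← hc, ti_indFun_inner hTI (hsupp a) (IsGen.isClassFunction (hgen b)) (hsupp b),
      hinner] at h'
    exact_mod_cast h'.symm
  have hinn : ∀ a θ, (c a θ : ℂ) = Cfsg.classInner (Cfsg.indFun H (φ a)) (θ : G → ℂ) := fun a θ => by
    rw [hc a, classInner_sum_irr]
  have ho : ∀ a, c a (trivChar G) = trivP a := fun a => by
    have h' := hinn a (trivChar G)
    rw [show ((trivChar G : Cfsg.IrrCharacter G) : G → ℂ) = fun _ => 1 from rfl, hone] at h'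
    exact_mod_cast h'
  choose dg hdg0 hdg using fun θ : Cfsg.IrrCharacter G => IsIrr.exists_degree θ.2
  have heval : ∀ a g, Cfsg.indFun H (φ a) g = ∑ θ, (c a θ : ℂ) * (θ : G → ℂ) g := fun a g => by
    rw [hc a, Finset.sum_apply]
    simp only [Pi.smul_apply, smul_eq_mul]
  have hdeg : ∀ a, ∑ θ, c a θ * (dg θ : ℤ) = 0 := fun a => by
    have h' : Cfsg.indFun H (φ a) 1 = 0 := by
      rw [indFun_apply_one, hsupp a 1, mul_zero]
      rintro ⟨m, hm, hm'⟩
      rw [h.inj (hm.trans (map_one f).symm)] at hm'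
      exact absurd hm' (by decide +kernel)
    rw [heval] at h'
    simp only [hdg] at h'
    exact_mod_cast h'
  -- the two involutions
  set u : Fin 2 → M := ![rep 1, rep 2] with hu
  have hu2 : ∀ l, u l * u l = 1 ∧ u l ≠ 1 := fun l => by
    fin_cases l <;> [exact inv_rep.1; exact inv_rep.2]
  have huo : ∀ l, orderOf (f (u l)) = 2 := fun l => by
    haveI : Fact (Nat.Prime 2) := ⟨Nat.prime_two⟩
    refine orderOf_eq_prime (by rw [pow_two, ← map_mul, (hu2 l).1, map_one]) fun e' => ?_
    exact (hu2 l).2 (h.inj (e'.trans (map_one f).symm))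
  have hzero : ∀ a l, ∑ θ, (c a θ : ℂ) * (θ : G → ℂ) (f (u l)) = 0 := fun a l => by
    rw [← heval]
    refine indFun_eq_zero_of_support (hsupp a) fun y => ?_
    rintro ⟨m, hm, hm2⟩
    obtain ⟨hp, hp1⟩ := rr_pow m hm2
    have hmm : m * m = 1 := h.inj (by
      rw [map_mul, hm, map_one]
      calc y⁻¹ * f (u l) * y * (y⁻¹ * f (u l) * y) = y⁻¹ * (f (u l) * f (u l)) * y := by group
        _ = 1 := by rw [← map_mul, (hu2 l).1, map_one]; group)
    have hm1 : m ≠ 1 := fun e' => by rw [e'] at hm2; exact absurd hm2 (by decide +kernel)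
    rcases inv_cases m hmm hm1 with e' | e' <;> rw [e'] at hm2 <;> exact absurd hm2 (by decide)
  have hKset : ∀ l, (Finset.univ.filter fun m : M => IsConj (f (u l)) (f m)) = invK l := by
    intro l
    ext m
    have hmem : ∀ k : Fin 2, m ∈ invK k ↔ cls m = ![(1 : Fin 14), 2] k := by
      intro k; fin_cases k <;> simp [invK]
    simp only [Finset.mem_filter, Finset.mem_univ, true_and, hmem]
    have hup : cls m = 1 → IsConj (f (rep 1)) (f m) := fun e' => by
      obtain ⟨b, hb⟩ := inv_conj1 m e'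
      exact isConj_iff.2 ⟨f b, by rw [← hb, map_mul, map_mul, map_inv]⟩
    have hvp : cls m = 2 → IsConj (f (rep 2)) (f m) := fun e' => by
      obtain ⟨b, hb⟩ := inv_conj2 m e'
      exact isConj_iff.2 ⟨f b, by rw [← hb, map_mul, map_mul, map_inv]⟩
    constructor
    · intro hm
      obtain ⟨c', hc'⟩ := isConj_iff.1 hm
      have hm2 : m * m = 1 := h.inj (by
        rw [map_mul, map_one, ← hc']
        calc c' * f (u l) * c'⁻¹ * (c' * f (u l) * c'⁻¹) = c' * (f (u l) * f (u l)) * c'⁻¹ := by group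
          _ = 1 := by rw [← map_mul, (hu2 l).1, map_one]; group)
      have hm1 : m ≠ 1 := fun e' => (hu2 l).2 (h.inj (by
        rw [e', map_one] at hc'
        rw [map_one]
        exact conj_eq_one_iff.1 hc'))
      fin_cases l <;> rcases inv_cases m hm2 hm1 with e' | e'
      · simpa using e'
      · exact absurd (hm.trans (hvp e').symm) h.not_isConj
      · exact absurd ((hup e').trans hm.symm) h.not_isConj
      · simpa using e'
    · intro e'
      fin_cases l
      · exact hup (by simpa using e')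
      · exact hvp (by simpa using e')
  set N : Fin 2 → ℂ := fun l => ((centralizer ({f (u l)} : Set G)).index : ℂ) with hN
  have hN0 : ∀ l, N l ≠ 0 := fun l => Nat.cast_ne_zero.2 Subgroup.index_ne_zero_of_finite
  have hpair : ∀ a l n, ∑ θ, (c a θ : ℂ) * ((θ : G → ℂ) (f (u l)) * (θ : G → ℂ) (f (u n)) / dg θ) =
      (H.index : ℂ) / (N l * N n) * (pairT a l n : ℂ) := by
    intro a l n
    have hfin := ti_involution_pair_sum hTI hSH hSinv (hsupp a) (huo l) (huo n)
    rw [finsum_mem_eq_toFinset_sum, finsum_mem_eq_toFinset_sum] at hfin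
    have hA : {p : G × G | IsConj (f (u l)) p.1 ∧ IsConj (f (u n)) p.2}.toFinset =
        CharIntegral.classFinset (f (u l)) ×ˢ CharIntegral.classFinset (f (u n)) := by
      ext q
      rw [Set.mem_toFinset, Finset.mem_product, CharIntegral.mem_classFinset, CharIntegral.mem_classFinset]
      rfl
    rw [hA, Finset.sum_product] at hfin
    rw [Finset.sum_congr rfl fun x _ => Finset.sum_congr rfl fun y _ => heval a (x * y)] at hfin
    have hterm : ∑ x ∈ CharIntegral.classFinset (f (u l)), ∑ y ∈ CharIntegral.classFinset (f (u n)),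
        ∑ θ, (c a θ : ℂ) * (θ : G → ℂ) (x * y) =
        (N l * N n) * ∑ θ, (c a θ : ℂ) * ((θ : G → ℂ) (f (u l)) * (θ : G → ℂ) (f (u n)) / dg θ) := by
      rw [Finset.sum_congr rfl fun x _ => Finset.sum_comm, Finset.sum_comm, Finset.mul_sum]
      refine Finset.sum_congr rfl fun θ _ => ?_
      simp only [← Finset.mul_sum]
      rw [class_pair_sum2 θ (hdg θ)]
      simp only [hN]
      ring
    rw [hterm] at hfin
    have hB : ∑ q ∈ {p : H × H | IsConj (f (u l)) (p.1 : G) ∧ IsConj (f (u n)) (p.2 : G)}.toFinset,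
        φ a (q.1 * q.2) = (pairT a l n : ℂ) := by
      have h1 : ∑ q ∈ {p : H × H | IsConj (f (u l)) (p.1 : G) ∧ IsConj (f (u n)) (p.2 : G)}.toFinset,
          φ a (q.1 * q.2) = ∑ i ∈ Finset.univ.filter fun m : M => IsConj (f (u l)) (f m),
            ∑ j ∈ Finset.univ.filter fun m : M => IsConj (f (u n)) (f m), phiV a (i * j) := by
        rw [← Finset.sum_product']
        refine Finset.sum_bij' (fun q _ => (e.symm q.1, e.symm q.2)) (fun q _ => (e q.1, e q.2))
          ?_ ?_ ?_ ?_ ?_
        · intro q hq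
          simp only [Set.mem_toFinset, Set.mem_setOf_eq] at hq
          simp only [Finset.mem_product, Finset.mem_filter, Finset.mem_univ, true_and, he]
          exact hq
        · intro q hq
          simp only [Finset.mem_product, Finset.mem_filter, Finset.mem_univ, true_and] at hq
          simp only [Set.mem_toFinset, Set.mem_setOf_eq]
          exact hq
        · intro q _; simp
        · intro q _; simp
        · intro q _; simp [φ]
      rw [h1, hKset, hKset, phiV_pairs]
    rw [hB] at hfin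
    rw [div_mul_eq_mul_div, eq_div_iff (mul_ne_zero (hN0 l) (hN0 n))]
    linear_combination hfin
  have hidx : (H.index : ℂ) ≠ 0 := Nat.cast_ne_zero.2 Subgroup.index_ne_zero_of_finite
  have hdg1 : dg (trivChar G) = 1 := by
    have h' := hdg (trivChar G)
    rw [trivChar_apply] at h'
    exact_mod_cast h'.symm
  have sys : Sys (trivChar G) (fun θ => (dg θ : ℤ)) (fun θ => (θ : G → ℂ) (f (u 0)))
      (fun θ => (θ : G → ℂ) (f (u 1))) c (972 * ((H.index : ℂ) / (N 0 * N 0)))
      (972 * ((H.index : ℂ) / (N 0 * N 1))) (972 * ((H.index : ℂ) / (N 1 * N 1))) :=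
    { dne := fun θ => by exact_mod_cast (hdg0 θ).ne'
      d_o := by simp [hdg1]
      c_o := ho
      G := hG
      hd := hdeg
      hB := fun a => hzero a 0
      hC := fun a => hzero a 1
      Quu := fun a => by
        simp only [Int.cast_natCast, pow_two]
        rw [hpair a 0 0]
        fin_cases a <;> simp [pairT] <;> ring
      Quv := fun a => by
        simp only [Int.cast_natCast]
        rw [hpair a 0 1]
        fin_cases a <;> simp [pairT] <;> ring
      Qvv := fun a => by
        simp only [Int.cast_natCast, pow_two]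
        rw [hpair a 1 1]
        fin_cases a <;> simp [pairT] <;> ring
      hK := mul_ne_zero (by norm_num) (div_ne_zero hidx (mul_ne_zero (hN0 0) (hN0 0)))
      hM := mul_ne_zero (by norm_num) (div_ne_zero hidx (mul_ne_zero (hN0 1) (hN0 1)))
      hL := by field_simp [hN0 0, hN0 1] }
  obtain ⟨θ, hθ, hpm⟩ := sys.concl
  dsimp only at hθ
  have hc1 : c 1 θ = 1 := by
    rcases hpm with e' | e'
    · exact e'
    · rw [e'] at hθ
      have := hdg0 θ
      omega
  rw [hc1, one_mul] at hθ
  refine ⟨θ, by rw [hdg, show dg θ = 3 by exact_mod_cast hθ]; norm_num, ?_⟩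
  have h' := hinn 1 θ
  rw [hc1, frobenius_reciprocity H (φ 1) (IsIrr.isClassFunction θ.2), ← classInner_conj_symm] at h'
  have h'' : Cfsg.classInner (fun x : H => (θ : G → ℂ) x) (φ 1) = 1 := by
    have := congrArg (starRingEnd ℂ) h'
    rw [Complex.conj_conj] at this
    simpa using this.symm
  rw [Cfsg.classInner, hcardH, show (∑ x : H, (θ : G → ℂ) x * (starRingEnd ℂ) (φ 1 x)) =
    ∑ m : M, (θ : G → ℂ) (f m) * (starRingEnd ℂ) (phiV 1 m) from
      (Finset.sum_congr rfl fun x _ => by
        show _ = (θ : G → ℂ) (f (e.symm x)) * (starRingEnd ℂ) (phiV 1 (e.symm x))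
        rw [he]).trans (hsum fun m => (θ : G → ℂ) (f m) * (starRingEnd ℂ) (phiV 1 m))] at h''
  rw [Cfsg.classInner, card_M]
  push_cast
  exact h''

end CfsgLib.Recog.ThreeCubeSFour
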