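import Mathlib

/-!
# The group `3³ : S₄`, the normalizer of `3³` in the alternating group of degree nine
-/

set_option autoImplicit false
set_option linter.all false
set_option maxRecDepth 100000

open DihedralGroup

namespace CfsgLib.Recog.ThreeCubeSFour

/-- The dihedral group of order six. -/
abbrev D3 := DihedralGroup 3

/-- The base. -/
abbrev Base := D3 × D3 × D3

/-- `S₃` acting on three points. -/
def act : D3 → ZMod 3 → ZMod 3
  | .r i, x => x - i
  | .sr i, x => i - x

theorem act_one : ∀ x, act 1 x = x := by decide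

theorem act_mul : ∀ a b x, act (a * b) x = act a (act b x) := by decide

/-- The coordinates. -/
def coord (b : Base) (i : ZMod 3) : D3 :=
  if i = 0 then b.1 else if i = 1 then b.2.1 else b.2.2

/-- An element of the base with given coordinates. -/
def ofFn (f : ZMod 3 → D3) : Base := (f 0, f 1, f 2)

theorem coord_ofFn (f : ZMod 3 → D3) (i : ZMod 3) : coord (ofFn f) i = f i := by
  fin_cases i <;> rfl

theorem coord_mul (b c : Base) (i : ZMod 3) : coord (b * c) i = coord b i * coord c i := by
  fin_cases i <;> rfl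

theorem coord_ext {b c : Base} (h : ∀ i, coord b i = coord c i) : b = c :=
  Prod.ext (h 0) (Prod.ext (h 1) (h 2))

/-- Permuting the coordinates. -/
def permute (s : D3) (b : Base) : Base := ofFn fun i => coord b (act s⁻¹ i)

theorem permute_mul (s : D3) (b c : Base) : permute s (b * c) = permute s b * permute s c :=
  coord_ext fun i => by simp only [permute, coord_ofFn, coord_mul]

theorem permute_permute (s t : D3) (b : Base) : permute (s * t) b = permute s (permute t b) :=
  coord_ext fun i => by simp only [permute, coord_ofFn, mul_inv_rev, act_mul]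

theorem permute_one (b : Base) : permute 1 b = b :=
  coord_ext fun i => by simp only [permute, coord_ofFn, inv_one, act_one]

/-- The action on the base. -/
def phi : D3 →* MulAut Base where
  toFun s :=
    { toFun := permute s
      invFun := permute s⁻¹
      left_inv := fun b => by rw [← permute_permute, inv_mul_cancel, permute_one]
      right_inv := fun b => by rw [← permute_permute, mul_inv_cancel, permute_one]
      map_mul' := permute_mul s }
  map_one' := MulEquiv.ext permute_one
  map_mul' s t := MulEquiv.ext (permute_permute s t)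

/-- `S₃ ≀ S₃`. -/
abbrev Amb := Base ⋊[phi] D3

instance : Fintype Amb := Fintype.ofEquiv (Base × D3) SemidirectProduct.equivProd.symm

/-- The sign of an element of `S₃`. -/
def par : D3 →* ℤˣ where
  toFun g := match g with
    | .r _ => 1
    | .sr _ => -1
  map_one' := rfl
  map_mul' := by decide

/-- The product of the signs in the base. -/
def baseSign (b : Base) : ℤˣ := par b.1 * par b.2.1 * par b.2.2

theorem baseSign_permute : ∀ s : D3, ∀ b : Base, baseSign (permute s b) = baseSign b := by
  decide +kernel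

/-- The sign on nine points. -/
def totalSign : Amb →* ℤˣ where
  toFun x := baseSign x.left * par x.right
  map_one' := rfl
  map_mul' x y := by
    show baseSign (x.left * permute x.right y.left) * par (x.right * y.right) = _
    rw [← baseSign_permute x.right y.left]
    simp only [baseSign, Prod.fst_mul, Prod.snd_mul, map_mul]
    ac_rfl

/-- The group `3³ : S₄`. -/
abbrev M := totalSign.ker

theorem card_M : Nat.card M = 648 := by
  rw [Nat.card_eq_fintype_card]
  decide +kernel

/-- The rotation index. -/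
def ri : D3 → ZMod 3
  | .r i => i
  | .sr i => i

/-- The reflection index. -/
def pf : D3 → ZMod 3
  | .r _ => 0
  | .sr _ => 1

/-- The conjugacy classes. -/
def cls (m : M) : Fin 14 :=
  let a := m.1.left
  match m.1.right with
  | .r k =>
    if k = 0 then
      if pf a.1 = 0 ∧ pf a.2.1 = 0 ∧ pf a.2.2 = 0 then
        if ri a.1 = 0 then
          if ri a.2.1 = 0 then (if ri a.2.2 = 0 then 0 else 3) else (if ri a.2.2 = 0 then 3 else 5)
        else
          if ri a.2.1 = 0 then (if ri a.2.2 = 0 then 3 else 5) else (if ri a.2.2 = 0 then 5 else 4)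
      else
        let i : ZMod 3 := if pf a.1 = 0 then 0 else if pf a.2.1 = 0 then 1 else 2
        if ri (coord a i) = 0 then 1 else 8
    else
      let z := (m.1 * m.1 * m.1).left
      if ri z.1 = 0 ∧ ri z.2.1 = 0 ∧ ri z.2.2 = 0 then 6
      else if ri z.1 * ri z.2.1 * ri z.2.2 * k = 1 then 10 else 11
  | .sr t =>
    let i : ZMod 3 := -t
    if pf (coord a i) = 1 then
      if (m.1 * m.1).left = 1 then 2 else 9
    else if ri (coord a i) = 0 then 7
    else if ri (coord a i) + pf (coord a (i + 1)) * ri (coord a i) = 1 then 12 else 13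

/-- The class sizes. -/
def csz : Fin 14 → ℕ := ![1, 27, 54, 6, 8, 12, 72, 54, 54, 108, 72, 72, 54, 54]

theorem card_cls : ∀ k, (Finset.univ.filter fun m : M => cls m = k).card = csz k := by
  decide +kernel

theorem sum_cls {A : Type*} [AddCommMonoid A] (f : Fin 14 → A) :
    ∑ m : M, f (cls m) = ∑ k, csz k • f k := by
  rw [← Finset.sum_fiberwise Finset.univ cls fun m => f (cls m)]
  refine Finset.sum_congr rfl fun k _ => ?_
  rw [← card_cls k, ← Finset.sum_const]
  exact Finset.sum_congr rfl fun m hm => by rw [(Finset.mem_filter.1 hm).2]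

/-- The action on nine points. -/
def act9 (g : Amb) (x : ZMod 3 × ZMod 3) : ZMod 3 × ZMod 3 :=
  (act g.right x.1, act (coord g.left (act g.right x.1)) x.2)

theorem act9_mul (g h : Amb) (x : ZMod 3 × ZMod 3) : act9 (g * h) x = act9 g (act9 h x) := by
  have hr : (g * h).right = g.right * h.right := rfl
  have hl : (g * h).left = g.left * permute g.right h.left := rfl
  simp only [act9, hr, hl, act_mul, coord_mul, permute, coord_ofFn]
  rw [← act_mul g.right⁻¹ g.right, inv_mul_cancel, act_one]

theorem act9_one (x : ZMod 3 × ZMod 3) : act9 1 x = x := by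
  have hr : (1 : Amb).right = 1 := rfl
  have hl : (1 : Amb).left = 1 := rfl
  have hc : ∀ i, coord 1 i = 1 := by decide
  simp only [act9, hr, hl, hc, act_one, Prod.mk.eta]

/-- The embedding into the symmetric group of degree nine. -/
def toPerm9 : M →* Equiv.Perm (Fin 9) :=
  letI : MulAction Amb (ZMod 3 × ZMod 3) :=
    { smul := act9, mul_smul := act9_mul, one_smul := act9_one }
  ((finProdFinEquiv (m := 3) (n := 3)).permCongrHom.toMonoidHom.comp
    (MulAction.toPermHom Amb (ZMod 3 × ZMod 3))).comp totalSign.ker.subtype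

open Equiv in
/-- The four given generators. -/
def genPerm : Finset (Perm (Fin 9)) :=
  {swap (0 : Fin 9) 1 * swap 1 2,
    swap (0 : Fin 9) 3 * swap 3 6 * (swap (1 : Fin 9) 4 * swap 4 7) * (swap (2 : Fin 9) 5 * swap 5 8),
    swap (0 : Fin 9) 1 * swap 3 4, swap (0 : Fin 9) 3 * swap 1 4 * swap 2 5 * swap 6 7}

/-- Their preimages. -/
def genM : Fin 4 → M
  | 0 => ⟨⟨(r 2, 1, 1), 1⟩, by decide⟩
  | 1 => ⟨⟨(1, 1, 1), r 2⟩, by decide⟩
  | 2 => ⟨⟨(sr 1, sr 1, 1), 1⟩, by decide⟩
  | 3 => ⟨⟨(1, 1, sr 1), sr 1⟩, by decide⟩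

theorem toPerm9_injective : Function.Injective toPerm9 := by
  rw [← MonoidHom.ker_eq_bot_iff, Subgroup.eq_bot_iff_forall]
  intro m hm
  have h : ∀ m : M, toPerm9 m = 1 → m = 1 := by decide +kernel
  exact h m hm

theorem gen_fwd : ∀ i, toPerm9 (genM i) ∈ genPerm := by decide +kernel

theorem gen_sub : genPerm ⊆ Finset.univ.image fun i => toPerm9 (genM i) := by decide +kernel

/-- The top part of a word. -/
def wTop (k : Fin 3) (t : Fin 2) : M := genM 3 ^ (t : ℕ) * genM 1 ^ (k : ℕ)

/-- The sign part of a word. -/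
def wSign (d e : Fin 2) : M :=
  genM 2 ^ (d : ℕ) * (genM 1 * genM 2 * genM 1 * genM 1) ^ (e : ℕ)

/-- The translation part of a word. -/
def wBase (a b c : Fin 3) : M :=
  genM 0 ^ (a : ℕ) * (genM 1 * genM 0 * genM 1 * genM 1) ^ (b : ℕ) *
    (genM 1 * genM 1 * genM 0 * genM 1) ^ (c : ℕ)

theorem gen_all : ∀ m : M, ∃ k t, (wTop k t).1.right = m.1.right ∧ ∃ d e,
    ((par (m * (wTop k t)⁻¹ * (wSign d e)⁻¹).1.left.1 = 1 ∧
      par (m * (wTop k t)⁻¹ * (wSign d e)⁻¹).1.left.2.1 = 1) ∧
    ∃ a b c, wBase a b c = m * (wTop k t)⁻¹ * (wSign d e)⁻¹) := by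
  decide +kernel

theorem range_toPerm9 : toPerm9.range = Subgroup.closure (genPerm : Set (Equiv.Perm (Fin 9))) := by
  refine le_antisymm ?_ ((Subgroup.closure_le _).2 fun p hp => ?_)
  · rintro _ ⟨m, rfl⟩
    obtain ⟨k, t, -, d, e, -, a, b, c, h⟩ := gen_all m
    rw [show m = wBase a b c * wSign d e * wTop k t by rw [h]; group]
    have hg : ∀ i, toPerm9 (genM i) ∈ Subgroup.closure (genPerm : Set (Equiv.Perm (Fin 9))) :=
      fun i => Subgroup.subset_closure (gen_fwd i)
    simp only [wBase, wSign, wTop, map_mul, map_pow]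
    exact mul_mem (mul_mem (mul_mem (mul_mem (pow_mem (hg 0) _)
      (pow_mem (mul_mem (mul_mem (mul_mem (hg 1) (hg 0)) (hg 1)) (hg 1)) _))
      (pow_mem (mul_mem (mul_mem (mul_mem (hg 1) (hg 1)) (hg 0)) (hg 1)) _))
      (mul_mem (pow_mem (hg 2) _) (pow_mem (mul_mem (mul_mem (mul_mem (hg 1) (hg 2)) (hg 1)) (hg 1)) _)))
      (mul_mem (pow_mem (hg 3) _) (pow_mem (hg 1) _))
  · obtain ⟨i, -, hi⟩ := Finset.mem_image.1 (gen_sub hp)
    exact ⟨genM i, hi⟩

end CfsgLib.Recog.ThreeCubeSFour
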