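import Cfsg.Agent.Lib.Recog.ThreeCubeSFour.Classes
import Mathlib.GroupTheory.Sylow

/-!
# Local consequences of strong closure
-/

open scoped Classical

set_option autoImplicit false
set_option linter.all false
set_option maxHeartbeats 1000000

namespace CfsgLib.Recog.ThreeCubeSFour

open Subgroup

variable {G : Type*} [Group G] [Finite G]

/-- The standing hypotheses. -/
structure Hyp (f : M →* G) : Prop where
  inj : Function.Injective f
  cent : ∀ j : M, inJ j = true → j ≠ 1 → centralizer ({f j} : Set G) ≤ f.range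
  closed : ∀ j : M, inJ j = true → ∀ g : G, g * f j * g⁻¹ ∈ f.range →
    ∃ j', inJ j' = true ∧ f j' = g * f j * g⁻¹

variable {f : M →* G}

theorem Hyp.card_centralizer (h : Hyp f) {j : M} (hj : inJ j = true) (hj1 : j ≠ 1) :
    Nat.card (centralizer ({f j} : Set G)) = jcent (cls j) := by
  have e : centralizer ({f j} : Set G) = (centralizer ({j} : Set M)).map f := by
    ext g
    simp only [mem_map, mem_centralizer_singleton_iff]
    refine ⟨fun hg => ?_, ?_⟩
    · obtain ⟨m, rfl⟩ : g ∈ f.range := h.cent j hj hj1 (mem_centralizer_singleton_iff.2 hg)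
      exact ⟨m, h.inj (by rw [map_mul, map_mul]; exact hg), rfl⟩
    · rintro ⟨m, hm, rfl⟩
      rw [← map_mul, ← map_mul, hm]
  rw [e, card_map_of_injective h.inj, ← card_cent j hj, ← Fintype.card_subtype,
    ← Nat.card_eq_fintype_card]
  exact Nat.card_congr (Equiv.subtypeEquivRight fun m => mem_centralizer_singleton_iff)

theorem Hyp.cls_eq (h : Hyp f) {j j' : M} (hj : inJ j = true) (hj1 : j ≠ 1) (hj' : inJ j' = true)
    (hj'1 : j' ≠ 1) {g : G} (hg : g * f j * g⁻¹ = f j') : cls j = cls j' := by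
  refine jcent_inj _ _ hj hj' ?_
  rw [← h.card_centralizer hj hj1, ← h.card_centralizer hj' hj'1]
  have e : centralizer ({f j'} : Set G) =
      (centralizer ({f j} : Set G)).map (MulAut.conj g).toMonoidHom := by
    ext y
    simp only [mem_map, mem_centralizer_singleton_iff, MulEquiv.coe_toMonoidHom, MulAut.conj_apply]
    constructor
    · intro hy
      refine ⟨g⁻¹ * y * g, ?_, by group⟩
      rw [← hg] at hy
      calc g⁻¹ * y * g * f j = g⁻¹ * (y * (g * f j * g⁻¹)) * g := by group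
        _ = f j * (g⁻¹ * y * g) := by rw [hy]; group
    · rintro ⟨x, hx, rfl⟩
      rw [← hg]
      calc g * x * g⁻¹ * (g * f j * g⁻¹) = g * (x * f j) * g⁻¹ := by group
        _ = g * f j * g⁻¹ * (g * x * g⁻¹) := by rw [hx]; group
  rw [e, card_map_of_injective (MulAut.conj g).injective]

theorem Hyp.mem_range (h : Hyp f) {j : M} (hj : inJ j = true) (hj1 : j ≠ 1) {g : G}
    (hg : g * f j * g⁻¹ ∈ f.range) : g ∈ f.range := by
  obtain ⟨j', hj', hfj⟩ := h.closed j hj g hg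
  have hj'1 : j' ≠ 1 := by
    rintro rfl
    rw [map_one, eq_comm, conj_eq_one_iff, ← map_one f] at hfj
    exact hj1 (h.inj hfj)
  have hc := h.cls_eq hj hj1 hj' hj'1 hfj.symm
  obtain ⟨c1, h1⟩ := jClass_conj j hj hj1
  obtain ⟨c2, h2⟩ := jClass_conj j' hj' hj'1
  rw [← hc] at h2
  have h3 : f (c2 * c1⁻¹) * f j * (f (c2 * c1⁻¹))⁻¹ = g * f j * g⁻¹ := by
    rw [← hfj, ← map_inv, ← map_mul, ← map_mul]
    congr 1
    rw [← h2]
    conv_lhs => rw [← h1]
    group
  have h4 : (f (c2 * c1⁻¹))⁻¹ * g ∈ centralizer ({f j} : Set G) := by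
    rw [mem_centralizer_singleton_iff]
    calc (f (c2 * c1⁻¹))⁻¹ * g * f j = (f (c2 * c1⁻¹))⁻¹ * (g * f j * g⁻¹) * g := by group
      _ = f j * ((f (c2 * c1⁻¹))⁻¹ * g) := by rw [← h3]; group
  have h5 := mul_mem (MonoidHom.mem_range.2 ⟨c2 * c1⁻¹, rfl⟩) (h.cent j hj hj1 h4)
  rwa [mul_inv_cancel_left] at h5

theorem Hyp.ti (h : Hyp f) : ∀ g : G, g ∉ f.range → ∀ s ∈ {x : G | ∃ m, f m = x ∧ rc (cls m) = true},
    g * s * g⁻¹ ∉ {x : G | ∃ m, f m = x ∧ rc (cls m) = true} := by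
  rintro g hg s ⟨m, rfl, hm⟩ ⟨m', hm', -⟩
  obtain ⟨hp, hp1⟩ := rr_pow m hm
  refine hg (h.mem_range hp hp1 ?_)
  refine ⟨m' ^ pw (cls m), ?_⟩
  rw [map_pow, hm', conj_pow, map_pow]

/-- The image of `3³`. -/
def jImg (f : M →* G) : Subgroup G := JM.map f

theorem mem_jImg {g : G} : g ∈ jImg f ↔ ∃ m, inJ m = true ∧ f m = g := by
  simp [jImg, mem_map, mem_JM]

theorem card_JM : Nat.card JM = 27 := by
  rw [← card_inJ, ← Fintype.card_subtype, ← Nat.card_eq_fintype_card]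
  exact Nat.card_congr (Equiv.subtypeEquivRight fun m => mem_JM)

theorem Hyp.normalizer_jImg (h : Hyp f) : normalizer (jImg f : Set G) = f.range := by
  have h3 : inJ (rep 3) = true ∧ rep 3 ≠ 1 := by
    constructor
    · decide +kernel
    · intro e
      have := cls_rep.2.2.1
      rw [e] at this
      exact absurd this (by decide +kernel)
  apply le_antisymm
  · intro g hg
    refine h.mem_range h3.1 h3.2 ?_
    obtain ⟨m, -, hm⟩ := mem_jImg.1 ((mem_normalizer_iff.1 hg _).1 (mem_jImg.2 ⟨_, h3.1, rfl⟩))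
    exact ⟨m, hm⟩
  · rintro _ ⟨c, rfl⟩
    rw [mem_normalizer_iff]
    intro x
    constructor
    · intro hx
      obtain ⟨j, hj, rfl⟩ := mem_jImg.1 hx
      exact mem_jImg.2 ⟨_, inJ_conj j hj c, by simp⟩
    · intro hx
      obtain ⟨j, hj, hjx⟩ := mem_jImg.1 hx
      refine mem_jImg.2 ⟨_, inJ_conj j hj c⁻¹, ?_⟩
      rw [inv_inv, map_mul, map_mul, hjx, map_inv]
      group

theorem pow_nine_of_three {m : M} {k : ℕ} (hm : m ^ 3 ^ k = 1) : m ^ 9 = 1 := by
  refine pow81 m ?_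
  have h1 : orderOf m ∣ 648 := card_M ▸ orderOf_dvd_natCard m
  obtain ⟨i, -, hi⟩ := (Nat.dvd_prime_pow Nat.prime_three).1 (orderOf_dvd_of_pow_eq_one hm)
  refine orderOf_dvd_iff_pow_eq_one.1 ?_
  rw [hi] at h1 ⊢
  have hcop : Nat.Coprime (3 ^ i) 8 := Nat.Coprime.pow_left i (by norm_num)
  exact hcop.dvd_of_dvd_mul_right (by norm_num at h1 ⊢; exact h1)

/-- The two classes of involutions do not fuse. -/
theorem Hyp.not_isConj (h : Hyp f) : ¬ IsConj (f (rep 1)) (f (rep 2)) := by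
  intro hconj
  obtain ⟨g, hg⟩ := isConj_iff.1 hconj.symm
  haveI : Fact (Nat.Prime 3) := ⟨Nat.prime_three⟩
  have hJ3 : inJ (rep 3) = true ∧ inJ (rep 3)⁻¹ = true ∧ inJ (rep 5) = true := by decide +kernel
  have hne : rep 3 ≠ 1 ∧ (rep 3)⁻¹ ≠ 1 ∧ rep 5 ≠ 1 ∧ cls (rep 3)⁻¹ ≠ 5 ∧ cls (1 : M) ≠ 5 ∧ cls (rep 3) ≠ 5 := by
    decide +kernel
  set A := centralizer ({f (rep 1)} : Set G) with hA
  have heA : f (rep 3) ∈ A := by
    rw [hA, mem_centralizer_singleton_iff, ← map_mul, ← map_mul, rep_comm.1]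
  set e : A := ⟨f (rep 3), heA⟩ with he
  set E := zpowers e with hE
  have he3 : e ^ 3 = 1 := Subtype.ext (by
    show f (rep 3) ^ 3 = 1
    rw [← map_pow, inJ_cube _ hJ3.1, map_one])
  have hEp : IsPGroup 3 E := by
    intro x
    obtain ⟨n, hn⟩ := x.2
    refine ⟨1, Subtype.ext ?_⟩
    show (x : A) ^ (3 ^ 1) = 1
    rw [← hn, pow_one, ← zpow_natCast, ← zpow_mul, mul_comm, zpow_mul, zpow_natCast, he3, one_zpow]
  obtain ⟨P, hP⟩ := hEp.exists_le_sylow
  have hPE : (P : Subgroup A) = E := by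
    by_contra hne'
    haveI : Group.IsNilpotent (P : Subgroup A) := P.2.isNilpotent
    have hlt : E.subgroupOf (P : Subgroup A) < ⊤ := by
      rw [lt_top_iff_ne_top, Ne, subgroupOf_eq_top]
      exact fun hh => hne' (le_antisymm hh hP)
    obtain ⟨⟨n, hnP⟩, hn, hnE⟩ := SetLike.exists_of_lt (normalizerCondition_of_isNilpotent _ hlt)
    refine hnE (mem_subgroupOf.2 ?_)
    have h1 : n * e * n⁻¹ ∈ E := mem_subgroupOf.1 ((mem_normalizer_iff.1 hn ⟨e, hP (mem_zpowers e)⟩).1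
      (mem_subgroupOf.2 (mem_zpowers e)))
    have h2 : (n : G) * f (rep 3) * (n : G)⁻¹ ∈ f.range := by
      obtain ⟨k, hk⟩ := h1
      refine ⟨rep 3 ^ k, ?_⟩
      rw [map_zpow]
      exact congrArg Subtype.val hk
    obtain ⟨m, hm⟩ := h.mem_range hJ3.1 hne.1 h2
    have hcomm : m * rep 1 = rep 1 * m := h.inj (by
      rw [map_mul, map_mul, hm]; exact mem_centralizer_singleton_iff.1 n.2)
    obtain ⟨k, hk⟩ := P.2 ⟨n, hnP⟩
    have h9 : m ^ 9 = 1 := pow_nine_of_three (k := k) (h.inj (by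
      rw [map_pow, hm, map_one]
      exact congrArg (fun x : (P : Subgroup A) => ((x : A) : G)) hk))
    show n ∈ E
    rcases cent_three m hcomm h9 with rfl | rfl | rfl
    · rw [show n = 1 from Subtype.ext (hm.symm.trans (map_one f))]
      exact one_mem _
    · rw [show n = e from Subtype.ext hm.symm]
      exact mem_zpowers e
    · rw [show n = e⁻¹ from Subtype.ext (by rw [← hm, map_inv]; rfl)]
      exact inv_mem (mem_zpowers e)
  -- the element of order three centralizing the second involution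
  set x := g * f (rep 5) * g⁻¹ with hx
  have hxA : x ∈ A := by
    rw [hA, mem_centralizer_singleton_iff, ← hg]
    calc g * f (rep 5) * g⁻¹ * (g * f (rep 2) * g⁻¹) = g * (f (rep 5) * f (rep 2)) * g⁻¹ := by group
      _ = g * (f (rep 2) * f (rep 5)) * g⁻¹ := by rw [← map_mul, ← map_mul, rep_comm.2]
      _ = g * f (rep 2) * g⁻¹ * (g * f (rep 5) * g⁻¹) := by group
  have hx3 : (⟨x, hxA⟩ : A) ^ 3 = 1 := Subtype.ext (by
    show x ^ 3 = 1
    rw [hx, conj_pow, ← map_pow, inJ_cube _ hJ3.2.2, map_one, mul_one, mul_inv_cancel])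
  have hXp : IsPGroup 3 (zpowers (⟨x, hxA⟩ : A)) := by
    intro y
    obtain ⟨n, hn⟩ := y.2
    refine ⟨1, Subtype.ext ?_⟩
    show (y : A) ^ (3 ^ 1) = 1
    rw [← hn, pow_one, ← zpow_natCast, ← zpow_mul, mul_comm, zpow_mul, zpow_natCast, hx3, one_zpow]
  obtain ⟨Q, hQ⟩ := hXp.exists_le_sylow
  obtain ⟨a, ha⟩ := MulAction.exists_smul_eq A Q P
  have hxa : a * (⟨x, hxA⟩ : A) * a⁻¹ ∈ E := by
    rw [← hPE, ← ha, Sylow.coe_subgroup_smul]
    exact Subgroup.smul_mem_pointwise_smul _ (MulAut.conj a) _ (hQ (mem_zpowers _))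
  obtain ⟨k, hk⟩ := hxa
  have hk' : (a : G) * g * f (rep 5) * ((a : G) * g)⁻¹ = f (rep 3 ^ k) := by
    rw [map_zpow]
    refine Eq.trans ?_ (congrArg Subtype.val hk).symm
    show _ = (a : G) * x * (a : G)⁻¹
    rw [hx]
    group
  have hcases : rep 3 ^ k = 1 ∨ rep 3 ^ k = rep 3 ∨ rep 3 ^ k = (rep 3)⁻¹ := by
    have h3 : (rep 3 : M) ^ (3 : ℤ) = 1 := by
      rw [show (3 : ℤ) = ((3 : ℕ) : ℤ) from rfl, zpow_natCast, inJ_cube _ hJ3.1]
    rw [show k = 3 * (k / 3) + k % 3 from (Int.mul_ediv_add_emod k 3).symm, zpow_add, zpow_mul, h3,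
      one_zpow, one_mul]
    have : k % 3 = 0 ∨ k % 3 = 1 ∨ k % 3 = 2 := by omega
    rcases this with e' | e' | e' <;> rw [e']
    · exact Or.inl (zpow_zero _)
    · exact Or.inr (Or.inl (zpow_one _))
    · refine Or.inr (Or.inr (eq_inv_of_mul_eq_one_left ?_))
      rw [← zpow_add_one, show (2 : ℤ) + 1 = 3 from rfl, h3]
  have hJk : inJ (rep 3 ^ k) = true := by
    rcases hcases with e' | e' | e' <;> rw [e']
    · exact JM.one_mem
    · exact hJ3.1
    · exact hJ3.2.1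
  have hk1 : rep 3 ^ k ≠ 1 := fun e' => by
    rw [e', map_one, conj_eq_one_iff, ← map_one f] at hk'
    exact hne.2.2.1 (h.inj hk')
  have hc := h.cls_eq hJ3.2.2 hne.2.2.1 hJk hk1 hk'
  rw [cls_rep.2.2.2.1] at hc
  rcases hcases with e' | e' | e' <;> rw [e'] at hc
  · exact hne.2.2.2.2.1 hc.symm
  · exact hne.2.2.2.2.2 hc.symm
  · exact hne.2.2.2.1 hc.symm

end CfsgLib.Recog.ThreeCubeSFour
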