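import Cfsg.Agent.Lib.Recog.ThreeCubeSFour.Classes
import Cfsg.Agent.Lib.Recog.ThreeCubeSFour.Vectors
import Cfsg.Agent.Lib.Char.Basic

/-!
# Characters of degree three of `3³ : S₄`
-/

open scoped Classical

set_option autoImplicit false
set_option linter.all false
set_option maxHeartbeats 1000000

namespace CfsgLib.Recog.ThreeCubeSFour

open CfsgLib.Char CfsgLib.Char.Exceptional

/-- The linear characters of `3³`. -/
noncomputable def lam (a : ZMod 3 × ZMod 3 × ZMod 3) : JM →* ℂˣ where
  toFun j := zeta (z4 (dot a j.1))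
  map_one' := by
    have h : dot a (1 : M) = 0 := by simp [dot, show ri (1 : D3) = 0 from rfl]
    exact Units.ext (by show val (root (z4 (dot a (1 : M)))) = 1; rw [h]; exact val_root_zero)
  map_mul' j k := Units.ext (by
    show val (root (z4 (dot a (j.1 * k.1)))) = val (root (z4 (dot a j.1))) * val (root (z4 (dot a k.1)))
    rw [dot_add _ j.2 _ k.2, z4_add, val_root_add])

theorem card_JM' : Nat.card JM = 27 := by
  rw [← card_inJ, ← Fintype.card_subtype, ← Nat.card_eq_fintype_card]
  exact Nat.card_congr (Equiv.subtypeEquivRight fun m => mem_JM)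

theorem sum_lam (j : JM) :
    ∑ a : ZMod 3 × ZMod 3 × ZMod 3, (lam a j : ℂ) = if j = 1 then (27 : ℂ) else 0 := by
  show ∑ a, val (root (z4 (dot a j.1))) = _
  rw [← val_sum, root_dot j.1 j.2]
  by_cases h : j = 1
  · rw [if_pos h, if_pos (by rw [h]; rfl)]
    simp [val]
    norm_num
  · rw [if_neg h, if_neg (show ¬ (j.1 = 1) from fun e => h (Subtype.ext e)), val_zero]

/-- A character of degree three is trivial on `3³`. -/
theorem trivial_on_J {ψ : M → ℂ} (hψ : Cfsg.IsCharacter M ψ) (h3 : ψ 1 = 3) :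
    ∀ j : M, inJ j = true → ψ j = 3 := by
  haveI := Fintype.ofFinite JM
  set χ : JM → ℂ := fun j => ψ j.1 with hχ
  have hχc : Cfsg.IsCharacter JM χ := IsChar.restrict JM hψ
  choose n hn using fun a => IsChar.classInner_eq_natCast hχc
    (IsIrr.isCharacter (isIrrCharacter_linear (lam a)))
  have hcard : (Nat.card JM : ℂ) = 27 := by rw [card_JM']; norm_num
  have hn' : ∀ a, (n a : ℂ) = (27 : ℂ)⁻¹ * ∑ j : JM, χ j * (lam a j⁻¹ : ℂ) := fun a => by
    rw [← hn a, Cfsg.classInner, hcard]
    refine congrArg _ (Finset.sum_congr rfl fun j _ => ?_)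
    rw [IsIrr.map_inv (isIrrCharacter_linear (lam a))]
  -- expansion
  have hexp : ∀ j : JM, χ j = ∑ a, (n a : ℂ) * (lam a j : ℂ) := by
    intro j
    simp only [hn', mul_assoc, ← Finset.mul_sum, Finset.sum_mul]
    rw [Finset.sum_comm]
    simp only [← Finset.mul_sum, ← Units.val_mul, ← map_mul, sum_lam]
    rw [Finset.sum_eq_single j (fun k _ hk => by
        rw [if_neg (fun e => hk (inv_mul_eq_one.1 e)), mul_zero]) (by simp), inv_mul_cancel, if_pos rfl]
    ring
  have hsum : ∑ a, n a = 3 := by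
    have := hexp 1
    simp only [map_one, Units.val_one, mul_one, hχ] at this
    have h1 : ((∑ a, n a : ℕ) : ℂ) = ((3 : ℕ) : ℂ) := by
      push_cast
      rw [← this]
      exact h3
    exact_mod_cast h1
  -- invariance
  have hinv : ∀ k a, n (opA k a) = n a := by
    intro k a
    have h1 : (n (opA k a) : ℂ) = n a := by
      rw [hn', hn']
      refine congrArg _ ?_
      let σ : JM ≃ JM :=
        { toFun := fun j => ⟨mv k * j.1 * (mv k)⁻¹, inJ_conj j.1 j.2 _⟩
          invFun := fun j => ⟨(mv k)⁻¹ * j.1 * mv k, by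
            have := inJ_conj j.1 j.2 (mv k)⁻¹
            rwa [inv_inv] at this⟩
          left_inv := fun j => Subtype.ext (by simp [mul_assoc])
          right_inv := fun j => Subtype.ext (by simp [mul_assoc]) }
      refine Fintype.sum_equiv σ _ _ fun j => ?_
      show χ j * val (root (z4 (dot (opA k a) (j.1⁻¹)))) =
        ψ (mv k * j.1 * (mv k)⁻¹) * val (root (z4 (dot a ((mv k * j.1 * (mv k)⁻¹)⁻¹))))
      rw [IsChar.isClassFunction hψ, dot_opA k a _ (inJ_inv _ j.2), conj_inv]
    exact_mod_cast h1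
  have hzero : ∀ a, a ≠ 0 → n a = 0 := by
    intro a ha
    by_contra hna
    have h1 : ∀ b ∈ Finset.univ.image fun k => opA k a, 1 ≤ n b := by
      intro b hb
      obtain ⟨k, -, rfl⟩ := Finset.mem_image.1 hb
      rw [hinv]
      omega
    have h2 := Finset.card_nsmul_le_sum _ n 1 h1
    have h4 : 4 ≤ (Finset.univ.image fun k => opA k a).card := by convert orbit_four a ha
    have h5 : ∑ b ∈ Finset.univ.image (fun k => opA k a), n b ≤ ∑ b, n b :=
      Finset.sum_le_univ_sum_of_nonneg fun _ => Nat.zero_le _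
    rw [smul_eq_mul, mul_one] at h2
    exact absurd (h4.trans (h2.trans (h5.trans hsum.le))) (by norm_num)
  intro j hj
  have h1 := hexp ⟨j, hj⟩
  rw [Finset.sum_eq_single 0 (fun a _ ha => by rw [hzero a ha, Nat.cast_zero, zero_mul]) (by simp)] at h1
  rw [Finset.sum_eq_single 0 (fun a _ ha => hzero a ha) (by simp)] at hsum
  rw [hsum] at h1
  rw [show ψ j = χ ⟨j, hj⟩ from rfl, h1]
  have hl : (lam 0 ⟨j, hj⟩ : ℂ) = 1 := by
    show val (root (z4 (dot 0 j))) = 1
    rw [show dot 0 j = 0 by simp [dot]]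
    exact val_root_zero
  rw [hl]
  norm_num

/-- A character trivial on `3³` that contains the second vector once takes the value `-1` at the first
involution. -/
theorem value_at_rep_one {ψ : M → ℂ} (hcl : Cfsg.IsClassFunction M ψ)
    (hJ : ∀ j, inJ j = true → ∀ m, ψ (j * m) = ψ m) (h3 : ψ 1 = 3)
    (hinner : Cfsg.classInner ψ (phiV 1) = 1) : ψ (rep 1) = -1 := by
  set g : Fin 14 → ℂ := ![3, ψ (rep 1), 0, 3, 3, 3, 0, 0, ψ (rep 1), 0, 0, 0, ψ (rep 12), ψ (rep 12)]
  have key : ∀ (r m : M) (c : M), inJ (c * m * c⁻¹ * r⁻¹) = true → ψ m = ψ r := by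
    intro r m c h
    have := hJ _ h r
    rw [inv_mul_cancel_right, hcl] at this
    exact this
  have hterm : ∀ m : M, ψ m * (starRingEnd ℂ) (phiV 1 m) =
      g (cls m) * (((VA 1 (cls m) : ℤ) : ℂ) + ((VB 1 (cls m) : ℤ) : ℂ) * (Real.sqrt 3 : ℂ)) := by
    intro m
    have hval : (VA 1 (cls m) = 0 ∧ VB 1 (cls m) = 0) ∨ ψ m = g (cls m) := by
      have hk : ∀ k : Fin 14, (VA 1 k = 0 ∧ VB 1 k = 0) ∨ jc k = true ∨ k = 8 ∨ k = 12 ∨ k = 13 := by
        decide +kernel
      rcases hk (cls m) with h | h | h | h | h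
      · exact Or.inl h
      · right
        have h0 : ψ m = 3 := by
          have := hJ m h 1
          rwa [mul_one, h3] at this
        have hj : ∀ k, jc k = true → k = 0 ∨ k = 3 ∨ k = 4 ∨ k = 5 := by decide
        rcases hj _ h with e | e | e | e <;> rw [h0, e] <;> rfl
      · right
        obtain ⟨c, hc⟩ := uCoset m (Or.inr h)
        rw [key _ _ c hc, h]
        rfl
      · right
        obtain ⟨c, hc⟩ := fourCoset m (Or.inl h)
        rw [key _ _ c hc, h]
        rfl
      · right
        obtain ⟨c, hc⟩ := fourCoset m (Or.inr h)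
        rw [key _ _ c hc, h]
        rfl
    have hconj : (starRingEnd ℂ) (phiV 1 m) = phiV 1 m := by
      simp only [phiV, map_add, map_mul, Complex.conj_ofReal, map_intCast]
    rw [hconj]
    rcases hval with ⟨h1, h2⟩ | h
    · simp [phiV, h1, h2]
    · rw [h]; rfl
  rw [Cfsg.classInner, card_M, Finset.sum_congr rfl fun m _ => hterm m,
    sum_cls (fun k => g k * (((VA 1 k : ℤ) : ℂ) + ((VB 1 k : ℤ) : ℂ) * (Real.sqrt 3 : ℂ)))] at hinner
  simp only [g] at hinner
  simp [Fin.sum_univ_succ, csz, VA, VB] at hinner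
  field_simp at hinner
  refine mul_left_cancel₀ (show (162 : ℂ) ≠ 0 by norm_num) ?_
  linear_combination -hinner

end CfsgLib.Recog.ThreeCubeSFour
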