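import Cfsg.Agent.Lib.Recog.ThreeCubeSFour.Exceptional
import Cfsg.Agent.Lib.Recog.ThreeCubeSFour.Restrict
import Cfsg.Agent.Lib.Blocks.Kernel
import Cfsg.Agent.Lib.Core.FPF
import Mathlib.GroupTheory.Transfer

/-!
# A subgroup `3³ : S₄` with strongly closed `3³` containing its centralizers is the whole group
-/

open scoped Classical

set_option autoImplicit false
set_option linter.all false
set_option maxHeartbeats 1000000

namespace CfsgLib.Recog.ThreeCubeSFour

open CfsgLib.Char CfsgLib.Char.Exceptional Subgroup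

variable {G : Type*} [Group G] [Finite G] {f : M →* G}

theorem range_eq_top (h : Hyp f) : f.range = ⊤ := by
  haveI := Fintype.ofFinite G
  haveI : Fact (Nat.Prime 3) := ⟨Nat.prime_three⟩
  obtain ⟨θ, hθ1, hinner⟩ := exists_degree_three f h
  set ψ : M → ℂ := fun m => (θ : G → ℂ) (f m) with hψ
  have hψc : Cfsg.IsCharacter M ψ := IsChar.comp f (IsIrr.isCharacter θ.2)
  have hψ1 : ψ 1 = 3 := by
    show (θ : G → ℂ) (f 1) = 3
    rw [map_one, hθ1]
  have hJ3 := trivial_on_J hψc hψ1
  set K := CfsgLib.Blocks.charKer θ with hK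
  haveI : K.Normal := inferInstance
  have hJK : ∀ j, inJ j = true → f j ∈ K := fun j hj =>
    CfsgLib.Blocks.mem_charKer.2 ((hJ3 j hj).trans hθ1.symm)
  have hJinv : ∀ j, inJ j = true → ∀ m, ψ (j * m) = ψ m := by
    intro j hj m
    show (θ : G → ℂ) (f (j * m)) = (θ : G → ℂ) (f m)
    obtain ⟨⟨θf, n, ρ, hρ, rfl⟩, hθ⟩ : ∃ θ' : Cfsg.IrrCharacter G, θ' = θ := ⟨θ, rfl⟩
    subst hθ
    have h1 := hJ3 j hj
    simp only [hψ] at h1
    have h2 : ρ.character (f j) = (Module.finrank ℂ (Fin n → ℂ) : ℂ) := by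
      rw [h1, ← ρ.char_one]; exact hθ1.symm
    rw [map_mul]
    simp only [Representation.character, map_mul]
    rw [(CharIntegral.character_eq_finrank_iff ρ (f j)).1 h2]
    rfl
  have hu := value_at_rep_one (IsChar.isClassFunction hψc) hJinv hψ1 hinner
  have hKH : ∀ m, f m ∈ K → inJ m = true := by
    intro m hm
    by_contra hne
    obtain ⟨i, hi⟩ := gamma_cases m (by simpa using hne)
    set c := (![genM 1, genM 2, genM 1 * genM 2 * genM 1 * genM 1] : Fin 3 → M) i
    have h1 : f (m * c * m⁻¹ * c⁻¹) ∈ K := by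
      rw [map_mul, map_mul, map_mul, map_inv, map_inv, mul_assoc, mul_assoc (f m)]
      refine K.mul_mem hm ?_
      rw [← mul_assoc]
      exact ‹K.Normal›.conj_mem _ (K.inv_mem hm) _
    obtain ⟨d, hd⟩ := uCoset _ hi
    set n := m * c * m⁻¹ * c⁻¹
    have h2 : f (d * n * d⁻¹) ∈ K := by
      rw [map_mul, map_mul, map_inv]
      exact ‹K.Normal›.conj_mem _ h1 _
    have h3 : f (rep 1) ∈ K := by
      have := K.mul_mem (K.inv_mem (hJK _ hd)) h2
      rw [← map_inv, ← map_mul] at this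
      rwa [show (d * n * d⁻¹ * (rep 1)⁻¹)⁻¹ * (d * n * d⁻¹) = rep 1 by group] at this
    have h4 : ψ (rep 1) = 3 := (CfsgLib.Blocks.mem_charKer.1 h3).trans hθ1
    rw [hu] at h4
    norm_num at h4
  set T := jImg f with hT
  have hcT : Nat.card T = 27 := by rw [hT, jImg, card_map_of_injective h.inj, card_JM]
  have hTp : IsPGroup 3 T := IsPGroup.of_card (n := 3) (by rw [hcT]; norm_num)
  have hTK : T ≤ K := fun x hx => by
    obtain ⟨j, hj, rfl⟩ := mem_jImg.1 hx
    exact hJK j hj
  have hN := h.normalizer_jImg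
  -- `T` is a Sylow subgroup of `K`, central in its normalizer
  have hTcomm : ∀ a ∈ T, ∀ b ∈ T, a * b = b * a := by
    intro a ha b hb
    obtain ⟨s, hs, rfl⟩ := mem_jImg.1 ha
    obtain ⟨r, hr, rfl⟩ := mem_jImg.1 hb
    rw [← map_mul, ← map_mul, inJ_comm s hs r hr]
  have hTKp : IsPGroup 3 (T.subgroupOf K) := hTp.of_equiv (subgroupOfEquivOfLe hTK).symm
  obtain ⟨P, hP⟩ := hTKp.exists_le_sylow
  have hnormK : ∀ x : K, x ∈ normalizer ((T.subgroupOf K : Subgroup K) : Set K) → (x : G) ∈ T := by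
    intro x hx
    have hxN : (x : G) ∈ normalizer (T : Set G) := by
      rw [mem_normalizer_iff_map_conj_eq]
      refine Subgroup.eq_of_le_of_card_ge (fun y hy => ?_) (by
        rw [card_map_of_injective (MulAut.conj (x : G)).injective])
      obtain ⟨a, ha, rfl⟩ := mem_map.1 hy
      exact mem_subgroupOf.1 ((mem_normalizer_iff.1 hx ⟨a, hTK ha⟩).1 (mem_subgroupOf.2 ha))
    obtain ⟨m, hm⟩ := (hN ▸ hxN : (x : G) ∈ f.range)
    exact mem_jImg.2 ⟨m, hKH m (hm ▸ x.2), hm⟩
  have hPT : (P : Subgroup K) = T.subgroupOf K := by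
    by_contra hne
    haveI : Group.IsNilpotent (P : Subgroup K) := P.2.isNilpotent
    have hlt : (T.subgroupOf K).subgroupOf (P : Subgroup K) < ⊤ := by
      rw [lt_top_iff_ne_top, Ne, subgroupOf_eq_top]
      exact fun hh => hne (le_antisymm hh hP)
    obtain ⟨⟨x, hxP⟩, hx, hxT⟩ := SetLike.exists_of_lt (normalizerCondition_of_isNilpotent _ hlt)
    refine hxT (mem_subgroupOf.2 (mem_subgroupOf.2 (hnormK x ?_)))
    rw [mem_normalizer_iff_map_conj_eq]
    refine Subgroup.eq_of_le_of_card_ge (fun y hy => ?_) (by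
      rw [card_map_of_injective (MulAut.conj x).injective])
    obtain ⟨a, ha, rfl⟩ := mem_map.1 hy
    exact mem_subgroupOf.1 ((mem_normalizer_iff.1 hx ⟨a, hP ha⟩).1 (mem_subgroupOf.2 ha))
  have hNC : normalizer ((P : Subgroup K) : Set K) ≤ centralizer ((P : Subgroup K) : Set K) := by
    intro x hx
    rw [hPT] at hx
    have hxT := hnormK x hx
    rw [hPT, mem_centralizer_iff]
    intro a ha
    exact Subtype.ext (hTcomm a (mem_subgroupOf.1 ha) x hxT)
  set Nc := (MonoidHom.transferSylow P hNC).ker with hNc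
  have hNc3 : ¬ 3 ∣ Nat.card Nc := MonoidHom.not_dvd_card_ker_transferSylow P hNC
  have hcompl := MonoidHom.ker_transferSylow_isComplement' P hNC
  set Q := Nc.map K.subtype with hQ
  have hTQ : T ≤ normalizer (Q : Set G) := by
    refine hTK.trans ?_
    refine le_trans ?_ (le_normalizer_map K.subtype)
    rw [normalizer_eq_top, ← MonoidHom.range_eq_map, range_subtype]
  have hQ3 : ¬ 3 ∣ Nat.card Q := by rwa [hQ, card_map_of_injective K.subtype_injective]
  have hQbot : Q = ⊥ := by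
    by_contra hne
    haveI : IsMulCommutative T := ⟨⟨fun a b => Subtype.ext (hTcomm a a.2 b b.2)⟩⟩
    have hfpf : ∀ a ∈ T, a ≠ 1 → Q ⊓ centralizer ({a} : Set G) = ⊥ := by
      intro a ha ha1
      rw [eq_bot_iff_forall]
      intro q hq
      obtain ⟨j, hj, rfl⟩ := mem_jImg.1 ha
      obtain ⟨m, hm⟩ := h.cent j hj (fun e => ha1 (by rw [e, map_one])) hq.2
      have hqT : q ∈ T := mem_jImg.2 ⟨m, hKH m (hm ▸ map_subtype_le _ hq.1), hm⟩
      rw [← orderOf_eq_one_iff]
      refine Nat.eq_one_of_dvd_coprimes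
        (((Nat.prime_three.coprime_iff_not_dvd.2 hQ3).pow_left 3).symm) (Subgroup.orderOf_dvd_natCard Q hq.1) ?_
      rw [show 3 ^ 3 = Nat.card T by rw [hcT]; norm_num]
      exact Subgroup.orderOf_dvd_natCard T hqT
    haveI := CfsgLib.Core.FPF.isCyclic_of_isMulCommutative hTQ hfpf hne (le_refl T)
    have hcube : ∀ q : T, q ^ 3 = 1 := fun q => by
      obtain ⟨r, hr, hre⟩ := mem_jImg.1 q.2
      refine Subtype.ext ?_
      rw [SubmonoidClass.coe_pow, ← hre, ← map_pow, inJ_cube r hr, map_one]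
      rfl
    obtain ⟨g, hg⟩ := IsCyclic.exists_ofOrder_eq_natCard (α := T)
    have := orderOf_dvd_of_pow_eq_one (hcube g)
    rw [hg, hcT] at this
    norm_num at this
  have hKT : K ≤ T := by
    intro g hg
    have hbot : Nc = ⊥ := (map_eq_bot_iff_of_injective _ K.subtype_injective).1 hQbot
    rw [← hNc, hbot, isComplement'_bot_left] at hcompl
    have : (⟨g, hg⟩ : K) ∈ (P : Subgroup K) := hcompl ▸ mem_top _
    rw [hPT] at this
    exact mem_subgroupOf.1 this
  rw [← hN, normalizer_eq_top_iff]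
  rw [show jImg f = K from le_antisymm hTK hKT]
  infer_instance

end CfsgLib.Recog.ThreeCubeSFour
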